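import Cfsg.Agent.Lib.Characterizations.CoType.Five.Frame

/-!
# The decomposition attached to an element of order five whose fixed part of `Q` is of minus type
-/

set_option autoImplicit false
set_option linter.style.haveILetI false
set_option linter.unusedSectionVars false
set_option maxRecDepth 10000

namespace CfsgLib.Characterizations.CoType

open CfsgLib.ThreeTransp.Extraspecial

/-- The combination of four vectors. -/
def comb (w : Fin 4 → V) (c : U4) : V := c 0 • w 0 + c 1 • w 1 + c 2 • w 2 + c 3 • w 3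

theorem comb_add (w : Fin 4 → V) (c d : U4) : comb w (c + d) = comb w c + comb w d := by
  simp only [comb, Pi.add_apply, add_smul]; abel

set_option maxRecDepth 100000 in
theorem pt_sum : ∀ c : U4, c = c 0 • pt 0 + c 1 • pt 1 + c 2 • pt 2 + c 3 • pt 3 := by decide +kernel

theorem q_smul (a : ZMod 2) (x : V) : q (a • x) = a * q x := by
  rcases two_cases a with rfl | rfl <;> simp [q_zero]

theorem B_smul_left (a : ZMod 2) (x y : V) : B (a • x) y = a * B x y := by
  rcases two_cases a with rfl | rfl
  · rw [zero_smul, zero_mul]; simp [B]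
  · rw [one_smul, one_mul]

theorem B_smul_right (a : ZMod 2) (x y : V) : B x (a • y) = a * B x y := by
  rw [B_comm, B_smul_left, B_comm]

theorem dec_comb {w : Fin 4 → V} (hq : ∀ i, q (w i) = 0) (hB : ∀ i j, i ≠ j → B (w i) (w j) = 1) :
    Dec (comb w) := by
  refine ⟨comb_add w, fun c => ?_⟩
  simp only [comb, q_add, B_add_left, q_smul, hq, mul_zero, zero_add, add_zero, B_smul_left, B_smul_right,
    hB 0 1 (by decide), hB 0 2 (by decide), hB 0 3 (by decide), hB 1 2 (by decide), hB 1 3 (by decide),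
    hB 2 3 (by decide), mul_one, qm]
  ring

variable {G : Type*} [Group G] [Finite G] {z : G} {Q : Subgroup G} {π : G → V}

namespace Co

variable (S : Co z Q π)
include S

/-- Existence of the two subspaces. -/
theorem exists_fr {b : G} (hbz : b * z = z * b) (hb5 : orderOf b = 5)
    (hR : Cfsg.IsExtraspecial 2 ↥(Q ⊓ Subgroup.centralizer ({b} : Set G)))
    (hR32 : Nat.card ↥(Q ⊓ Subgroup.centralizer ({b} : Set G)) = 32)
    (hminus : ∀ A : Subgroup G, A ≤ Q ⊓ Subgroup.centralizer ({b} : Set G) →
      Cfsg.IsElementaryAbelian 2 A → Nat.card A ≤ 4) :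
    ∃ ι₀ ι₁, Fr S b ι₀ ι₁ := by
  classical
  set R := Q ⊓ Subgroup.centralizer ({b} : Set G) with hRdef
  have hI := S.act_iso hbz
  have hb1 : b ^ 5 = 1 := by rw [← hb5, pow_orderOf_eq_one]
  -- fixed vectors are the images of `R`
  have lift : ∀ x ∈ Q, (x * b = b * x ↔ S.act b (π x) = π x) := fun x hx =>
    ⟨fun h => by rw [S.act_π hbz hx, ← h, mul_inv_cancel_right], S.comm_of_fixed hbz hb1 hx⟩
  have memR : ∀ x, x ∈ R ↔ x ∈ Q ∧ x * b = b * x := fun x => by
    rw [hRdef, Subgroup.mem_inf, Subgroup.mem_centralizer_singleton_iff]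
  have hfix16 : (Finset.univ.filter fun v : V => S.act b v = v).card = 16 := by
    have h := S.card_pre (fun v : V => S.act b v = v)
    rw [Nat.card_congr (Equiv.subtypeEquivRight (q := fun x => x ∈ R) fun x =>
      ((memR x).trans ⟨fun h => ⟨h.1, (lift x h.1).1 h.2⟩, fun h => ⟨h.1, (lift x h.1).2 h.2⟩⟩).symm), hR32] at h
    omega
  have fix0 : S.act b 0 = 0 := hI.map_zero
  have fixadd : ∀ x y, S.act b x = x → S.act b y = y → S.act b (x + y) = x + y := fun x y hx hy => by
    rw [hI.add, hx, hy]
  have fixsmul : ∀ (a : ZMod 2) x, S.act b x = x → S.act b (a • x) = a • x := fun a x hx => by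
    rw [hI.map_smul, hx]
  -- the fixed space is non-degenerate
  have nondeg : ∀ x, S.act b x = x → x ≠ 0 → ∃ y, S.act b y = y ∧ B x y = 1 := by
    intro x hx hx0
    by_contra hne
    push Not at hne
    have hxQ := S.sec_mem x
    have hxR : S.sec x ∈ R := (memR _).2 ⟨hxQ, (lift _ hxQ).2 (by rw [S.π_sec, hx])⟩
    have hcen : (⟨S.sec x, hxR⟩ : ↥R) ∈ Subgroup.center ↥R := Subgroup.mem_center_iff.2 fun r => by
      obtain ⟨hrQ, hrb⟩ := (memR _).1 r.2
      refine Subtype.ext ((S.comm_iff hrQ hxQ).2 ?_)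
      rw [S.π_sec, B_comm]
      exact (two_cases _).resolve_right (hne _ ((lift _ hrQ).1 hrb))
    have hzR : z ∈ R := (memR _).2 ⟨S.extra.z_mem, hbz.symm⟩
    have hz_cen : (⟨z, hzR⟩ : ↥R) ∈ Subgroup.center ↥R := Subgroup.mem_center_iff.2 fun r =>
      Subtype.ext (S.mem_cz ((memR _).1 r.2).1)
    have h2 := hR.2
    have key : S.sec x = 1 ∨ S.sec x = z := by
      by_contra hcon
      push Not at hcon
      have h3 : ({1, ⟨z, hzR⟩, ⟨S.sec x, hxR⟩} : Finset ↥R).card = 3 := by
        rw [Finset.card_insert_of_notMem, Finset.card_pair]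
        · exact fun e => hcon.2 (congrArg Subtype.val e).symm
        · simp only [Finset.mem_insert, Finset.mem_singleton, not_or]
          exact ⟨fun e => S.extra.z_ne (congrArg Subtype.val e).symm, fun e => hcon.1 (congrArg Subtype.val e).symm⟩
      have h4 : Nat.card (({1, ⟨z, hzR⟩, ⟨S.sec x, hxR⟩} : Finset ↥R) : Set ↥R) ≤
          Nat.card ↥(Subgroup.center ↥R) := by
        refine Nat.card_mono (Set.toFinite (Subgroup.center ↥R : Set ↥R)) ?_
        intro r hr
        simp only [Finset.coe_insert, Finset.coe_singleton, Set.mem_insert_iff, Set.mem_singleton_iff] at hr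
        rcases hr with rfl | rfl | rfl
        exacts [one_mem _, hz_cen, hcen]
      rw [Nat.card_coe_set_eq, Set.ncard_coe_finset, h3, h2] at h4
      omega
    apply hx0
    rw [← S.π_sec x]
    exact (S.π_ker _ hxQ).2 key
  -- no totally singular line
  have aniso : ∀ x y, S.act b x = x → S.act b y = y → x ≠ 0 → y ≠ 0 → x ≠ y → q x = 0 → q y = 0 →
      B x y = 1 := by
    intro x y hx hy hx0 hy0 hxy hqx hqy
    refine (two_cases _).resolve_left fun hB => ?_
    have hBxx := B_self x
    have hByy := B_self y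
    let L : Finset V := {0, x, y, x + y}
    have hL4 : L.card = 4 := by
      have h1 : x + y ≠ x := fun e => hy0 (by simpa using e)
      have h2 : x + y ≠ y := fun e => hx0 (by simpa using e)
      have h3 : x + y ≠ 0 := fun e => hxy (by
        calc x = x + y + y := by rw [add_assoc, add_self_V, add_zero]
          _ = y := by rw [e, zero_add])
      simp only [L]
      rw [Finset.card_insert_of_notMem, Finset.card_insert_of_notMem, Finset.card_pair h2.symm]
      · simp [hxy, h1.symm]
      · simp [hx0.symm, hy0.symm, h3.symm]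
    have memL : ∀ a, a ∈ L ↔ ∃ i j : ZMod 2, a = i • x + j • y := by
      intro a
      simp only [L, Finset.mem_insert, Finset.mem_singleton]
      constructor
      · rintro (rfl | rfl | rfl | rfl)
        exacts [⟨0, 0, by simp⟩, ⟨1, 0, by simp⟩, ⟨0, 1, by simp⟩, ⟨1, 1, by simp⟩]
      · rintro ⟨i, j, rfl⟩
        rcases two_cases i with rfl | rfl <;> rcases two_cases j with rfl | rfl <;> simp
    have hLadd : ∀ a ∈ L, ∀ a' ∈ L, a + a' ∈ L ∧ B a a' = 0 := by
      intro a ha a' ha'
      obtain ⟨i, j, rfl⟩ := (memL a).1 ha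
      obtain ⟨i', j', rfl⟩ := (memL a').1 ha'
      refine ⟨(memL _).2 ⟨i + i', j + j', by rw [add_smul, add_smul]; abel⟩, ?_⟩
      rw [B_add_left, B_smul_left, B_smul_left, B_comm x, B_comm y, B_add_left, B_add_left, B_smul_left,
        B_smul_left, B_smul_left, B_smul_left, B_self, B_self, B_comm y x, hB]
      simp
    let A : Subgroup G :=
      { carrier := {g | g ∈ Q ∧ π g ∈ L}
        one_mem' := ⟨one_mem Q, by rw [S.π_one]; simp [L]⟩
        mul_mem' := fun {g h} hg hh => ⟨mul_mem hg.1 hh.1, by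
          rw [S.π_mul g hg.1 h hh.1]; exact (hLadd _ hg.2 _ hh.2).1⟩
        inv_mem' := fun {g} hg => ⟨inv_mem hg.1, by rw [S.π_inv hg.1]; exact hg.2⟩ }
    have hqL : ∀ a ∈ L, q a = 0 ∧ S.act b a = a := by
      intro a ha
      simp only [L, Finset.mem_insert, Finset.mem_singleton] at ha
      rcases ha with rfl | rfl | rfl | rfl
      exacts [⟨q_zero, fix0⟩, ⟨hqx, hx⟩, ⟨hqy, hy⟩, ⟨by rw [q_add, hqx, hqy, hB]; decide, fixadd _ _ hx hy⟩]
    have hAR : A ≤ R := fun g hg => (memR g).2 ⟨hg.1, (lift g hg.1).2 (hqL _ hg.2).2⟩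
    have hA : Cfsg.IsElementaryAbelian 2 A :=
      ⟨⟨⟨fun g h => Subtype.ext ((S.comm_iff g.2.1 h.2.1).2 (hLadd _ g.2.2 _ h.2.2).2)⟩⟩,
        fun g hg => by rw [pow_two]; exact (S.q_iff g hg.1).1 (hqL _ hg.2).1⟩
    have h8 := S.card_pre (fun v : V => v ∈ L)
    rw [Finset.filter_univ_mem, hL4] at h8
    have hle := hminus A hAR hA
    change Nat.card {g : G // g ∈ Q ∧ π g ∈ L} ≤ 4 at hle
    omega
  -- four singular points
  obtain ⟨s, hs, hs0, hsq⟩ : ∃ s, S.act b s = s ∧ s ≠ 0 ∧ q s = 0 := by
    obtain ⟨x, hx, hx0⟩ : ∃ x, S.act b x = x ∧ x ≠ 0 := by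
      obtain ⟨x, hx, hne⟩ := Finset.exists_mem_ne (by rw [hfix16]; norm_num) (0 : V)
      exact ⟨x, (Finset.mem_filter.1 hx).2, hne⟩
    obtain ⟨y, hy, hxy⟩ := nondeg x hx hx0
    obtain ⟨c, hc, hcs⟩ : ∃ c, S.act b c = c ∧ c ∉ ({0, x, y, x + y} : Finset V) := by
      by_contra hne
      push Not at hne
      have : (Finset.univ.filter fun v : V => S.act b v = v) ⊆ ({0, x, y, x + y} : Finset V) :=
        fun v hv => hne v (Finset.mem_filter.1 hv).2
      have h1 := (Finset.card_le_card this).trans (Finset.card_le_four)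
      omega
    set d := c + B c y • x + B c x • y with hd
    have hdfix : S.act b d = d := fixadd _ _ (fixadd _ _ hc (fixsmul _ _ hx)) (fixsmul _ _ hy)
    have hd0 : d ≠ 0 := by
      intro e
      apply hcs
      have : c = B c y • x + B c x • y := by
        calc c = c + (B c y • x + B c x • y + (B c y • x + B c x • y)) := by rw [add_self_V, add_zero]
          _ = _ := by rw [← add_assoc, ← add_assoc c, ← hd, e, zero_add]
      rw [this]
      rcases two_cases (B c y) with e1 | e1 <;> rcases two_cases (B c x) with e2 | e2 <;> rw [e1, e2] <;> simp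
    have hdx : B d x = 0 := by
      rw [hd, B_add_left, B_add_left, B_smul_left, B_smul_left, B_self, B_comm y x, hxy, mul_zero, add_zero,
        mul_one, CharTwo.add_self_eq_zero]
    rcases two_cases (q x) with e1 | e1
    · exact ⟨x, hx, hx0, e1⟩
    rcases two_cases (q d) with e2 | e2
    · exact ⟨d, hdfix, hd0, e2⟩
    refine ⟨x + d, fixadd _ _ hx hdfix, fun e => ?_, by rw [q_add, e1, e2, B_comm, hdx]; decide⟩
    have hde : d = x := by
      calc d = x + d + x := by rw [add_comm x d, add_assoc, add_self_V, add_zero]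
        _ = x := by rw [e, zero_add]
    have hdy : B d y = 0 := by
      rw [hd, B_add_left, B_add_left, B_smul_left, B_smul_left, hxy, B_self, mul_zero, add_zero, mul_one,
        CharTwo.add_self_eq_zero]
    rw [hde, hxy] at hdy
    exact one_ne_zero hdy
  obtain ⟨t, ht, htq, hst⟩ : ∃ t, S.act b t = t ∧ q t = 0 ∧ B s t = 1 := by
    obtain ⟨y, hy, hsy⟩ := nondeg s hs hs0
    refine ⟨y + q y • s, fixadd _ _ hy (fixsmul _ _ hs), ?_, ?_⟩
    · rw [q_add, q_smul, hsq, B_smul_right, B_comm, hsy]
      simp [CharTwo.add_self_eq_zero]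
    · rw [B_comm, B_add_left, B_smul_left, B_self, B_comm, hsy, mul_zero, add_zero]
  have proj2 : ∀ c, S.act b c = c → S.act b (c + B c t • s + B c s • t) = c + B c t • s + B c s • t ∧
      B (c + B c t • s + B c s • t) s = 0 ∧ B (c + B c t • s + B c s • t) t = 0 := fun c hc => by
    refine ⟨fixadd _ _ (fixadd _ _ hc (fixsmul _ _ hs)) (fixsmul _ _ ht), ?_, ?_⟩
    · rw [B_add_left, B_add_left, B_smul_left, B_smul_left, B_self, B_comm t s, hst, mul_zero, add_zero, mul_one,
        CharTwo.add_self_eq_zero]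
    · rw [B_add_left, B_add_left, B_smul_left, B_smul_left, B_self, hst, mul_zero, add_zero, mul_one,
        CharTwo.add_self_eq_zero]
  have perp_one : ∀ c, S.act b c = c → B c s = 0 → B c t = 0 → c ≠ 0 → q c = 1 := by
    intro c hc hcs hct hc0
    refine (two_cases _).resolve_left fun e => ?_
    have hne : s ≠ c := fun e' => by rw [← e', hst] at hct; exact one_ne_zero hct
    have := aniso s c hs hc hs0 hc0 hne hsq e
    rw [B_comm, hcs] at this
    exact zero_ne_one this
  obtain ⟨a, ha, has, hat, ha0⟩ : ∃ a, S.act b a = a ∧ B a s = 0 ∧ B a t = 0 ∧ a ≠ 0 := by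
    obtain ⟨c, hc, hcs⟩ : ∃ c, S.act b c = c ∧ c ∉ ({0, s, t, s + t} : Finset V) := by
      by_contra hne
      push Not at hne
      have : (Finset.univ.filter fun v : V => S.act b v = v) ⊆ ({0, s, t, s + t} : Finset V) :=
        fun v hv => hne v (Finset.mem_filter.1 hv).2
      have h1 := (Finset.card_le_card this).trans (Finset.card_le_four)
      omega
    obtain ⟨h1, h2, h3⟩ := proj2 c hc
    refine ⟨_, h1, h2, h3, fun e => hcs ?_⟩
    have : c = B c t • s + B c s • t := by
      calc c = c + (B c t • s + B c s • t + (B c t • s + B c s • t)) := by rw [add_self_V, add_zero]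
        _ = _ := by rw [← add_assoc, ← add_assoc c, e, zero_add]
    rw [this]
    rcases two_cases (B c t) with e1 | e1 <;> rcases two_cases (B c s) with e2 | e2 <;> rw [e1, e2] <;> simp
  obtain ⟨a', ha', ha's, ha't, haa⟩ : ∃ a', S.act b a' = a' ∧ B a' s = 0 ∧ B a' t = 0 ∧ B a a' = 1 := by
    obtain ⟨y, hy, hay⟩ := nondeg a ha ha0
    obtain ⟨h1, h2, h3⟩ := proj2 y hy
    refine ⟨_, h1, h2, h3, ?_⟩
    rw [B_comm, B_add_left, B_add_left, B_smul_left, B_smul_left, B_comm s a, B_comm t a, has, hat, B_comm, hay]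
    simp
  have ha'0 : a' ≠ 0 := fun e => by rw [e, B_comm] at haa; simp [B] at haa
  have hqa := perp_one a ha has hat ha0
  have hqa' := perp_one a' ha' ha's ha't ha'0
  set w : Fin 4 → V := ![s, t, s + t + a, s + t + a'] with hw
  have hsa : B s a = 0 := by rw [B_comm]; exact has
  have hta : B t a = 0 := by rw [B_comm]; exact hat
  have hsa' : B s a' = 0 := by rw [B_comm]; exact ha's
  have hta' : B t a' = 0 := by rw [B_comm]; exact ha't
  have hts : B t s = 1 := by rw [B_comm]; exact hst
  have haa' : B a' a = 1 := by rw [B_comm]; exact haa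
  have hD0 : Dec (comb w) := by
    refine dec_comb (fun i => ?_) fun i j hij => ?_
    · fin_cases i
      · exact hsq
      · exact htq
      · show q (s + t + a) = 0
        rw [q_add, q_add, B_add_left, hsq, htq, hst, hqa, hsa, hta]; decide
      · show q (s + t + a') = 0
        rw [q_add, q_add, B_add_left, hsq, htq, hst, hqa', hsa', hta']; decide
    · have main : ∀ i j : Fin 4, i < j → B (w i) (w j) = 1 := by
        intro i j hij
        fin_cases i <;> fin_cases j <;> first | exact absurd hij (by decide) | skip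
        · exact hst
        · show B s (s + t + a) = 1
          rw [B_comm, B_add_left, B_add_left, B_self, hts, has]; decide
        · show B s (s + t + a') = 1
          rw [B_comm, B_add_left, B_add_left, B_self, hts, ha's]; decide
        · show B t (s + t + a) = 1
          rw [B_comm, B_add_left, B_add_left, B_self, hst, hat]; decide
        · show B t (s + t + a') = 1
          rw [B_comm, B_add_left, B_add_left, B_self, hst, ha't]; decide
        · show B (s + t + a) (s + t + a') = 1
          rw [B_comm, B_add_left, B_add_left, B_comm s (s + t + a), B_comm t (s + t + a), B_comm a' (s + t + a)]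
          simp only [B_add_left, B_self, hst, hts, has, hat, hsa', hta', haa]
          decide
      rcases lt_or_gt_of_ne hij with h | h
      · exact main i j h
      · rw [B_comm]; exact main j i h
  set ι₀ := comb w with hι
  have hfix : ∀ c, S.act b (ι₀ c) = ι₀ c := fun c =>
    fixadd _ _ (fixadd _ _ (fixadd _ _ (fixsmul _ _ hs) (fixsmul _ _ ht))
      (fixsmul _ _ (fixadd _ _ (fixadd _ _ hs ht) ha))) (fixsmul _ _ (fixadd _ _ (fixadd _ _ hs ht) ha'))
  have hsurj : ∀ x, S.act b x = x → ∃ c, x = ι₀ c := by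
    intro x hx
    have himg : Finset.univ.image ι₀ = Finset.univ.filter fun v : V => S.act b v = v := by
      refine Finset.eq_of_subset_of_card_le (fun v hv => ?_) (by
        rw [hfix16, Finset.card_image_of_injective _ hD0.inj, Finset.card_univ, Fintype.card_fun, ZMod.card,
          Fintype.card_fin]; norm_num)
      obtain ⟨c, -, rfl⟩ := Finset.mem_image.1 hv
      exact Finset.mem_filter.2 ⟨Finset.mem_univ _, hfix c⟩
    obtain ⟨c, -, e⟩ := Finset.mem_image.1 (himg ▸ Finset.mem_filter.2 ⟨Finset.mem_univ x, hx⟩ : x ∈ Finset.univ.image ι₀)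
    exact ⟨c, e.symm⟩
  -- the complement
  set f := S.act b with hf
  have hW : ∀ x, projU ι₀ x = 0 → projU ι₀ (f x) = 0 := fun x hx => hD0.proj_eq_zero fun c => by
    rw [← hfix c, hI.polar]; exact hD0.proj_of_range_perp hx c
  have hfpf : ∀ x, projU ι₀ x = 0 → f x = x → x = 0 := fun x hx hfx => by
    obtain ⟨c, rfl⟩ := hsurj x hfx
    rw [hD0.proj_ι] at hx
    rw [hx, hD0.zero]
  have hf5 : ∀ x, f (f (f (f (f x)))) = x := fun x => by
    have hb2 : b * b * z = z * (b * b) := (Commute.mul_left (show Commute b z from hbz) hbz).eq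
    have hb4 : b * b * (b * b) * z = z * (b * b * (b * b)) := (Commute.mul_left (show Commute _ z from hb2) hb2).eq
    calc f (f (f (f (f x)))) = S.act (b * b * (b * b)) (f x) := by
          rw [S.act_mul hb2 hb2, S.act_mul hbz hbz, S.act_mul hbz hbz]
      _ = S.act (b * b * (b * b) * b) x := (S.act_mul hb4 hbz x).symm
      _ = x := by
        rw [show b * b * (b * b) * b = b ^ 5 by simp only [pow_succ, pow_zero, one_mul, mul_assoc], hb1, S.act_one]
  have hper : ∀ {x : V}, f (f x) = x → f x = x := fun {x} h => by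
    have := hf5 x
    rwa [h, h] at this
  obtain ⟨x, hx, hx0⟩ : ∃ x, projU ι₀ x = 0 ∧ x ≠ 0 := by
    have h16 := hD0.card_perp
    by_contra hne
    push Not at hne
    have : Nat.card {x : V // projU ι₀ x = 0} ≤ 1 := Finite.card_le_one_iff_subsingleton.2
      ⟨fun u v => Subtype.ext ((hne _ u.2).trans (hne _ v.2).symm)⟩
    omega
  -- orbit forms
  have hsum : ∀ y, projU ι₀ y = 0 → y + f y + f (f y) + f (f (f y)) + f (f (f (f y))) = 0 := fun y hy => by
    refine hfpf _ (by simp only [hD0.proj_add, hy, hW y hy, hW _ (hW y hy), hW _ (hW _ (hW y hy)),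
      hW _ (hW _ (hW _ (hW y hy))), add_zero]) ?_
    simp only [hI.add, hf5]
    abel
  have hB1 : ∀ u v, B (f u) (f v) = B u v := hI.polar
  have hneg1 : ∀ y, B y (f (f (f (f y)))) = B y (f y) := fun y => by
    conv_lhs => rw [← hB1, hf5]
    rw [B_comm]
  have hneg2 : ∀ y, B y (f (f (f y))) = B y (f (f y)) := fun y => by
    conv_lhs => rw [← hB1, ← hB1, hf5]
    rw [B_comm]
  have hqsum : ∀ y, projU ι₀ y = 0 → q y + B y (f y) + B y (f (f y)) = 0 := fun y hy => by
    have h := congrArg q (hsum y hy)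
    have c1 : B (f y) (f (f y)) = B y (f y) := hB1 _ _
    have c2 : B (f y) (f (f (f y))) = B y (f (f y)) := hB1 _ _
    have c3 : B (f y) (f (f (f (f y)))) = B y (f (f y)) := (hB1 _ _).trans (hneg2 y)
    have c4 : B (f (f y)) (f (f (f y))) = B y (f y) := (hB1 _ _).trans c1
    have c5 : B (f (f y)) (f (f (f (f y)))) = B y (f (f y)) := (hB1 _ _).trans c2
    have c6 : B (f (f (f y))) (f (f (f (f y)))) = B y (f y) := (hB1 _ _).trans c4
    simp only [q_add, B_add_left, hI.quad, hneg1, hneg2, c1, c2, c3, c4, c5, c6, q_zero] at h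
    linear_combination h - (2 * q y + 2 * B y (f y) + 2 * B y (f (f y))) * two_eq
  obtain ⟨w₀, hw₀, hw0, hwq⟩ : ∃ w₀, projU ι₀ w₀ = 0 ∧ w₀ ≠ 0 ∧ q w₀ = 0 := by
    rcases two_cases (q x) with e | e
    · exact ⟨x, hx, hx0, e⟩
    rcases two_cases (B x (f x)) with e1 | e1
    · refine ⟨x + f x, by rw [hD0.proj_add, hx, hW x hx, add_zero], fun h => hx0 (hfpf x hx ?_), ?_⟩
      · calc f x = x + (x + f x) := by rw [← add_assoc, add_self_V, zero_add]
          _ = x := by rw [h, add_zero]
      · rw [q_add, hI.quad, e, e1]; decide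
    · have e2 : B x (f (f x)) = 0 := by
        have := hqsum x hx
        rw [e, e1] at this
        linear_combination this - two_eq
      refine ⟨x + f (f x), by rw [hD0.proj_add, hx, hW _ (hW x hx), add_zero], fun h => hx0 (hfpf x hx (hper ?_)), ?_⟩
      · calc f (f x) = x + (x + f (f x)) := by rw [← add_assoc, add_self_V, zero_add]
          _ = x := by rw [h, add_zero]
      · rw [q_add, hI.quad, hI.quad, e, e2]; decide
  set w' : Fin 4 → V := ![w₀, f w₀, f (f w₀), f (f (f w₀))] with hw'
  set Ψ := comb w' with hΨ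
  have hw4 : f (f (f (f w₀))) = w₀ + f w₀ + f (f w₀) + f (f (f w₀)) := by
    have h := hsum w₀ hw₀
    calc f (f (f (f w₀))) = w₀ + f w₀ + f (f w₀) + f (f (f w₀)) +
          (w₀ + f w₀ + f (f w₀) + f (f (f w₀)) + f (f (f (f w₀)))) := by
          rw [← add_assoc, add_self_V, zero_add]
      _ = _ := by rw [h, add_zero]
  have hpt : ∀ i : Fin 5, Ψ (pt i) = f^[i.val] w₀ := by
    intro i
    fin_cases i <;> simp only [hΨ, comb, pt, hw'] <;> simp [hw4]
  have hcyc : ∀ c, f (Ψ c) = Ψ (pa cyc c) := u4_ext (fun a a' => by rw [hΨ, comb_add, hI.add])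
    (fun a a' => by rw [pa_add, hΨ, comb_add]) fun i => by
    rw [pa_pt, cyc_apply.1, hpt, hpt]
    fin_cases i
    · rfl
    · rfl
    · rfl
    · rfl
    · exact hf5 w₀
  have hΨW : ∀ c, projU ι₀ (Ψ c) = 0 := fun c => by
    have e1 := hW w₀ hw₀
    have e2 := hW _ e1
    have e3 := hW _ e2
    refine hD0.proj_eq_zero fun d => ?_
    simp only [hΨ, comb, hw', B_add_left, B_smul_left]
    simp [hD0.proj_of_range_perp hw₀, hD0.proj_of_range_perp e1, hD0.proj_of_range_perp e2,
      hD0.proj_of_range_perp e3]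
  have hΨinj : ∀ c, Ψ c = 0 → c = 0 := by
    intro c hc
    by_contra hc0
    obtain ⟨k, d, hd, rfl⟩ := cyc_orbits c hc0
    have hpow : ∀ (n : ℕ) (d : U4), Ψ (pa (cyc ^ n) d) = f^[n] (Ψ d) := by
      intro n
      induction n with
      | zero => intro d; rw [pow_zero, pa_one]; rfl
      | succ n ih => intro d; rw [pow_succ', pa_mul, ← hcyc, ih, Function.iterate_succ_apply']
    rw [hpow] at hc
    have hd0 : Ψ d = 0 := Function.Injective.iterate hI.inj k.val (hc.trans (Function.iterate_fixed fix0 _).symm)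
    have sum0 : ∀ u v : V, u + v = 0 → v = u := fun u v h => by
      calc v = u + (u + v) := by rw [← add_assoc, add_self_V, zero_add]
        _ = u := by rw [h, add_zero]
    simp only [List.mem_cons, List.not_mem_nil, or_false] at hd
    rcases hd with rfl | rfl | rfl
    · rw [hpt] at hd0; exact hw0 hd0
    · rw [hΨ, comb_add, ← hΨ, hpt, hpt] at hd0
      exact hw0 (hfpf w₀ hw₀ (sum0 _ _ hd0))
    · rw [hΨ, comb_add, ← hΨ, hpt, hpt] at hd0
      exact hw0 (hfpf w₀ hw₀ (hper (sum0 _ _ hd0)))
  have hinj : Function.Injective Ψ := fun c d h => by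
    have : Ψ (c + d) = 0 := by rw [hΨ, comb_add, ← hΨ, h, add_self_V]
    calc c = c + d + d := by rw [add_assoc, add_self_U, add_zero]
      _ = d := by rw [hΨinj _ this, zero_add]
  have hWsurj : ∀ y, projU ι₀ y = 0 → ∃ c, Ψ c = y := by
    intro y hy
    let Φ : U4 → {x : V // projU ι₀ x = 0} := fun c => ⟨Ψ c, hΨW c⟩
    have hb := (show Function.Injective Φ from fun c d h => hinj (congrArg Subtype.val h)).bijective_of_nat_card_le
      (by rw [hD0.card_perp, Nat.card_fun, Nat.card_zmod, Nat.card_fin]; norm_num)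
    obtain ⟨c, hc⟩ := hb.2 ⟨y, hy⟩
    exact ⟨c, congrArg Subtype.val hc⟩
  have ha12 : B w₀ (f w₀) = 1 ∧ B w₀ (f (f w₀)) = 1 := by
    have h0 := hqsum w₀ hw₀
    rw [hwq, zero_add] at h0
    rcases two_cases (B w₀ (f w₀)) with e | e
    · exfalso
      rw [e, zero_add] at h0
      -- `w₀` would be orthogonal to everything
      apply hw0
      refine nondeg_V.1 w₀ fun i => ?_
      set y := (Pi.single i 1 : V)
      obtain ⟨c, hc⟩ := hWsurj _ (hD0.proj_rest y)
      have hy : y = ι₀ (projU ι₀ y) + Ψ c := by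
        rw [hc, add_comm y, ← add_assoc, add_self_V, zero_add]
      rw [hy, B_comm, B_add_left, B_comm (ι₀ _), hD0.proj_of_range_perp hw₀, zero_add]
      simp only [hΨ, comb, hw', B_add_left, B_smul_left]
      simp [B_self, B_comm _ w₀, hneg2, e, h0]
    · exact ⟨e, by rw [e] at h0; linear_combination h0 - two_eq⟩
  have hD1 : Dec Ψ := by
    refine dec_comb (fun i => ?_) fun i j hij => ?_
    · fin_cases i
      · exact hwq
      · exact (hI.quad _).trans hwq
      · exact (hI.quad _).trans ((hI.quad _).trans hwq)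
      · exact (hI.quad _).trans ((hI.quad _).trans ((hI.quad _).trans hwq))
    · have main : ∀ i j : Fin 4, i < j → B (w' i) (w' j) = 1 := by
        intro i j hij
        fin_cases i <;> fin_cases j <;> first | exact absurd hij (by decide) | skip
        · exact ha12.1
        · exact ha12.2
        · exact (hneg2 _).trans ha12.2
        · exact (hB1 _ _).trans ha12.1
        · exact (hB1 _ _).trans ha12.2
        · exact ((hB1 _ _).trans (hB1 _ _)).trans ha12.1
      rcases lt_or_gt_of_ne hij with h | h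
      · exact main i j h
      · rw [B_comm]; exact main j i h
  exact ⟨ι₀, Ψ, hbz, hb5, hD0, hD1, fun c d => by rw [B_comm]; exact hD0.proj_of_range_perp (hΨW d) c, hfix, hcyc⟩

end Co

end CfsgLib.Characterizations.CoType
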