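import Cfsg.Agent.Lib.Characterizations.CoType.Five.Local

/-!
# The centralizer of `C_Q(b)` and its intersection with a conjugate
-/

set_option autoImplicit false
set_option linter.style.haveILetI false
set_option linter.unusedSectionVars false
set_option maxRecDepth 10000

namespace CfsgLib.Characterizations.CoType

variable {G : Type*} [Group G] [Finite G] {z : G} {Q : Subgroup G} {π : G → V}

/-- `C(z) ∩ C(b)`. -/
def cb (z b : G) : Subgroup G := Subgroup.centralizer ({z} : Set G) ⊓ Subgroup.centralizer ({b} : Set G)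

theorem mem_cb {z b c : G} : c ∈ cb z b ↔ c * z = z * c ∧ c * b = b * c := by
  rw [cb, Subgroup.mem_inf, Subgroup.mem_centralizer_singleton_iff, Subgroup.mem_centralizer_singleton_iff]

/-- The centralizer of `C_Q(b)`. -/
def ca (Q : Subgroup G) (b : G) : Subgroup G := Subgroup.centralizer (rOf Q b : Set G)

theorem mem_ca {Q : Subgroup G} {b c : G} : c ∈ ca Q b ↔ ∀ x ∈ rOf Q b, c * x = x * c := by
  rw [ca, Subgroup.mem_centralizer_iff]
  exact ⟨fun h x hx => (h x hx).symm, fun h x hx => (h x hx).symm⟩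

set_option maxRecDepth 100000 in
theorem five_commutators : ∀ σ : Equiv.Perm (Fin 5), Equiv.Perm.sign σ = 1 →
    ∃ a : Equiv.Perm (Fin 5), ∃ c : Equiv.Perm (Fin 5), Equiv.Perm.sign a = 1 ∧ Equiv.Perm.sign c = 1 ∧
      σ = a * c * a⁻¹ * c⁻¹ := by decide +kernel

namespace Fr

variable {S : Co z Q π} {b : G} {ι₀ ι₁ : U4 → V} (F : Fr S b ι₀ ι₁)
include F

theorem exists_s0 (c : ↥(cb z b)) : ∃ σ : ↥(alternatingGroup (Fin 5)), ∃ τ,
    Acts S ι₀ ι₁ (c : G) σ τ ∧ ∃ k : ℕ, τ = cyc ^ k := by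
  obtain ⟨σ, τ, h, hk, hs⟩ := F.acts_of_comm (mem_cb.1 c.2).1 (mem_cb.1 c.2).2
  exact ⟨⟨σ, hs⟩, τ, h, hk⟩

/-- The action of `C(z) ∩ C(b)` on the points of the fixed space. -/
noncomputable def s0 : ↥(cb z b) →* ↥(alternatingGroup (Fin 5)) :=
  MonoidHom.mk' (fun c => (F.exists_s0 c).choose) fun c d => by
    obtain ⟨τ, h, -⟩ := (F.exists_s0 (c * d)).choose_spec
    obtain ⟨τc, hc, -⟩ := (F.exists_s0 c).choose_spec
    obtain ⟨τd, hd, -⟩ := (F.exists_s0 d).choose_spec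
    exact Subtype.ext (F.acts_unique h (F.acts_mul hc hd)).1

theorem s0_spec (c : ↥(cb z b)) : ∃ τ, Acts S ι₀ ι₁ (c : G) (F.s0 c) τ ∧ ∃ k : ℕ, τ = cyc ^ k :=
  (F.exists_s0 c).choose_spec

theorem s0_surjective : Function.Surjective F.s0 := fun σ => by
  obtain ⟨c, hcb, hact⟩ := F.lift_comm σ.2
  refine ⟨⟨c, mem_cb.2 ⟨hact.cz, hcb⟩⟩, ?_⟩
  obtain ⟨τ, h, -⟩ := F.s0_spec ⟨c, mem_cb.2 ⟨hact.cz, hcb⟩⟩
  exact Subtype.ext (F.acts_unique h hact).1

theorem s0_rOf {c : ↥(cb z b)} (hc : (c : G) ∈ Q) : F.s0 c = 1 := by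
  obtain ⟨τ, h, -⟩ := F.s0_spec c
  exact Subtype.ext (F.acts_unique h (F.acts_Q hc)).1

theorem acts_pow_b (k : ℕ) : Acts S ι₀ ι₁ (b ^ k) 1 (cyc ^ k) := by
  induction k with
  | zero => simpa using F.acts_Q (one_mem Q)
  | succ k ih => simpa [pow_succ] using F.acts_mul ih F.acts_b

/-- The kernel of the action. -/
theorem s0_ker {c : ↥(cb z b)} (hc : F.s0 c = 1) : ∃ k : ℕ, ∃ r ∈ rOf Q b, (c : G) = b ^ k * r := by
  obtain ⟨τ, h, k, rfl⟩ := F.s0_spec c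
  rw [hc] at h
  refine ⟨k, (b ^ k)⁻¹ * c, mem_rOf.2 ⟨F.mem_Q_of_acts_eq (F.acts_pow_b k) h, ?_⟩, by rw [mul_inv_cancel_left]⟩
  exact (Commute.mul_left (Commute.inv_left (Commute.pow_left rfl k)) (mem_cb.1 c.2).2).eq

theorem exists_s1 (c : ↥(ca Q b)) : ∃ τ : ↥(alternatingGroup (Fin 5)), Acts S ι₀ ι₁ (c : G) 1 τ := by
  have hc := mem_ca.1 c.2
  have hcz : (c : G) * z = z * c := hc z (mem_rOf.2 ⟨S.extra.z_mem, F.bz.symm⟩)
  have hfix : ∀ a, S.act (c : G) (ι₀ a) = ι₀ a := fun a => by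
    rw [← S.π_sec (ι₀ a), S.act_π hcz (S.sec_mem _),
      hc _ (mem_rOf.2 ⟨S.sec_mem _, F.sec_comm a⟩), mul_inv_cancel_right]
  obtain ⟨σ, τ, h⟩ := F.exists_acts hcz fun a => by rw [hfix, F.proj10]
  obtain rfl : σ = 1 := pa_inj fun a => F.D0.inj (by rw [← h.on0, hfix, pa_one])
  exact ⟨⟨τ, by rw [Equiv.Perm.mem_alternatingGroup, ← F.sign_eq h, map_one]⟩, h⟩

/-- The action of the centralizer of `C_Q(b)` on the points of the complement. -/
noncomputable def s1 : ↥(ca Q b) →* ↥(alternatingGroup (Fin 5)) :=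
  MonoidHom.mk' (fun c => (F.exists_s1 c).choose) fun c d =>
    Subtype.ext (F.acts_unique (F.exists_s1 (c * d)).choose_spec
      (by simpa using F.acts_mul (F.exists_s1 c).choose_spec (F.exists_s1 d).choose_spec)).2

theorem s1_spec (c : ↥(ca Q b)) : Acts S ι₀ ι₁ (c : G) 1 (F.s1 c) := (F.exists_s1 c).choose_spec

theorem s1_surjective : Function.Surjective F.s1 := fun τ => by
  obtain ⟨c, hcR, hact⟩ := F.lift_cent τ.2
  have hm : c ∈ ca Q b := mem_ca.2 fun x hx => hcR x (mem_rOf.1 hx).1 (mem_rOf.1 hx).2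
  exact ⟨⟨c, hm⟩, Subtype.ext (F.acts_unique (F.s1_spec ⟨c, hm⟩) hact).2⟩

theorem s1_ker {c : ↥(ca Q b)} : F.s1 c = 1 ↔ (c : G) ∈ Q := by
  constructor
  · intro h
    have := F.s1_spec c
    rw [h] at this
    exact F.mem_Q_of_acts_one this
  · intro h
    exact Subtype.ext (F.acts_unique (F.s1_spec c) (F.acts_Q h)).2

theorem mem_ca_Q {x : G} (hx : x ∈ Q) : x ∈ ca Q b ↔ projU ι₀ (π x) = 0 := by
  rw [mem_ca]
  constructor
  · intro h
    refine F.D0.proj_eq_zero fun a => ?_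
    rw [← S.π_sec (ι₀ a)]
    exact (S.comm_iff hx (S.sec_mem _)).1 (h _ (mem_rOf.2 ⟨S.sec_mem _, F.sec_comm a⟩))
  · intro h r hr
    obtain ⟨hrQ, hrb⟩ := mem_rOf.1 hr
    refine (S.comm_iff hx hrQ).2 ?_
    rw [F.R_π hrQ hrb]
    exact F.D0.proj_of_range_perp h _

theorem card_Q_inf : Nat.card ↥(Q ⊓ ca Q b) = 32 := by
  classical
  have h := S.card_pre (fun v : V => projU ι₀ v = 0)
  rw [← Fintype.card_subtype, ← Nat.card_eq_fintype_card, F.D0.card_perp] at h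
  norm_num at h
  rw [← h]
  exact Nat.card_congr (Equiv.subtypeEquivRight fun x =>
    ⟨fun hx => ⟨hx.1, (F.mem_ca_Q hx.1).1 hx.2⟩, fun hx => ⟨hx.1, (F.mem_ca_Q hx.1).2 hx.2⟩⟩)

theorem card_ca : Nat.card ↥(ca Q b) = 1920 := by
  have hk : F.s1.ker = Q.subgroupOf (ca Q b) := by
    ext c; rw [MonoidHom.mem_ker, F.s1_ker, Subgroup.mem_subgroupOf]
  have h := F.s1.ker.card_mul_index
  rw [Subgroup.index_ker, hk, MonoidHom.range_eq_top.2 F.s1_surjective, Subgroup.card_top] at h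
  rw [← h, ← Subgroup.inf_subgroupOf_right, Nat.card_congr (Subgroup.subgroupOfEquivOfLe inf_le_right).toEquiv,
    F.card_Q_inf]
  have : Nat.card ↥(alternatingGroup (Fin 5)) = 60 := by rw [Nat.card_eq_fintype_card]; decide
  rw [this]

/-- Homomorphisms with commutative image killing `C_Q(b)` are trivial. -/
theorem perfect_kill (Lz : Subgroup G) (hle : Lz ≤ cb z b)
    (hker : ∀ k (hk : k ∈ Lz), F.s0 ⟨k, hle hk⟩ = 1 → k ∈ rOf Q b)
    (hsurj : ∀ σ, ∃ k, ∃ hk : k ∈ Lz, F.s0 ⟨k, hle hk⟩ = σ)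
    {H : Type*} [Group H] (f : ↥Lz →* H) (hR : ∀ k : ↥Lz, (k : G) ∈ rOf Q b → f k = 1)
    (hcomm : ∀ x y, Commute (f x) (f y)) (k : ↥Lz) : f k = 1 := by
  obtain ⟨a, c, ha, hc, he⟩ := five_commutators (F.s0 ⟨k, hle k.2⟩ : Equiv.Perm (Fin 5))
    (F.s0 ⟨k, hle k.2⟩).2
  obtain ⟨ka, hka, ea⟩ := hsurj ⟨a, ha⟩
  obtain ⟨kc, hkc, ec⟩ := hsurj ⟨c, hc⟩
  set K : ↥Lz := ⟨ka, hka⟩ * ⟨kc, hkc⟩ * ⟨ka, hka⟩⁻¹ * ⟨kc, hkc⟩⁻¹
  have hK : f K = 1 := by
    simp only [K, map_mul, map_inv]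
    rw [(hcomm ⟨ka, hka⟩ ⟨kc, hkc⟩).eq]
    group
  have hmem : ((K⁻¹ * k : ↥Lz) : G) ∈ rOf Q b := by
    refine hker _ (K⁻¹ * k).2 ?_
    rw [show (⟨((K⁻¹ * k : ↥Lz) : G), hle (K⁻¹ * k).2⟩ : ↥(cb z b)) = Subgroup.inclusion hle (K⁻¹ * k) from rfl,
      map_mul, map_mul, map_inv, map_inv, inv_mul_eq_one]
    simp only [K, map_mul, map_inv]
    show F.s0 ⟨ka, hle hka⟩ * F.s0 ⟨kc, hle hkc⟩ * (F.s0 ⟨ka, hle hka⟩)⁻¹ * (F.s0 ⟨kc, hle hkc⟩)⁻¹ =
      F.s0 ⟨k, hle k.2⟩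
    rw [ea, ec]
    exact Subtype.ext he.symm
  have := hR _ hmem
  rwa [map_mul, map_inv, hK, inv_one, one_mul] at this

/-- A lift of `A₅` in `C(z) ∩ C(b)` with kernel `C_Q(b)` centralises the centralizer of `C_Q(b)`. -/
theorem comm_ca (Lz : Subgroup G) (hle : Lz ≤ cb z b)
    (hker : ∀ k (hk : k ∈ Lz), F.s0 ⟨k, hle hk⟩ = 1 → k ∈ rOf Q b)
    (hsurj : ∀ σ, ∃ k, ∃ hk : k ∈ Lz, F.s0 ⟨k, hle hk⟩ = σ) :
    ∀ k ∈ Lz, ∀ a ∈ ca Q b, k * a = a * k := by
  have hcz : ∀ k ∈ Lz, k * z = z * k ∧ k * b = b * k := fun k hk => mem_cb.1 (hle hk)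
  -- trivial action on the complement
  have ht1 : ∀ k : ↥Lz, ∀ σ τ, Acts S ι₀ ι₁ (k : G) σ τ → τ = 1 := by
    have hex : ∀ k : ↥Lz, ∃ τ, (∃ σ, Acts S ι₀ ι₁ (k : G) σ τ) ∧ ∃ n : ℕ, τ = cyc ^ n := fun k => by
      obtain ⟨τ, h, hn⟩ := F.s0_spec ⟨k, hle k.2⟩
      exact ⟨τ, ⟨_, h⟩, hn⟩
    choose t ht htn using hex
    let f : ↥Lz →* Equiv.Perm (Fin 5) := MonoidHom.mk' t fun k k' => by
      obtain ⟨σ, h⟩ := ht (k * k')
      obtain ⟨σ₁, h₁⟩ := ht k
      obtain ⟨σ₂, h₂⟩ := ht k'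
      exact (F.acts_unique h (F.acts_mul h₁ h₂)).2
    intro k σ τ hk
    obtain ⟨σ', h'⟩ := ht k
    rw [(F.acts_unique hk h').2]
    refine F.perfect_kill Lz hle hker hsurj f (fun k hk => ?_) (fun x y => ?_) k
    · obtain ⟨σ, h⟩ := ht k
      exact (F.acts_unique h (F.acts_Q (mem_rOf.1 hk).1)).2
    · obtain ⟨m, hm⟩ := htn x
      obtain ⟨n, hn⟩ := htn y
      show Commute (t x) (t y)
      rw [hm, hn]
      exact (Commute.refl cyc).pow_pow m n
  -- the elements of `Q` centralising `C_Q(b)` are centralised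
  have hQ1 : ∀ x ∈ Q, x ∈ ca Q b → ∀ k : ↥Lz, (k : G) * x = x * k := by
    intro x hxQ hxa k
    obtain ⟨τ, hk, -⟩ := F.s0_spec ⟨k, hle k.2⟩
    have hval : ∀ k : ↥Lz, (k : G) * x * (k : G)⁻¹ * x⁻¹ = 1 ∨ (k : G) * x * (k : G)⁻¹ * x⁻¹ = z := by
      intro k
      obtain ⟨τ, hk, -⟩ := F.s0_spec ⟨k, hle k.2⟩
      have hπ : π ((k : G) * x * (k : G)⁻¹) = π x := by
        rw [← S.act_π (hcz _ k.2).1 hxQ, F.decomp (π x), (F.mem_ca_Q hxQ).1 hxa, F.D0.zero, zero_add,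
          hk.on1, ht1 k _ _ hk, pa_one]
      exact (S.π_ker _ (mul_mem (S.norm _ (hcz _ k.2).1 x hxQ) (inv_mem hxQ))).1 (by
        rw [S.π_mul _ (S.norm _ (hcz _ k.2).1 x hxQ) _ (inv_mem hxQ), S.π_inv hxQ, hπ, add_self_V])
    have hvz : ∀ k : ↥Lz, ∀ c, c * z = z * c → Commute c ((k : G) * x * (k : G)⁻¹ * x⁻¹) := fun k c hc => by
      rcases hval k with e | e <;> rw [e]
      · exact Commute.one_right c
      · exact hc
    let f : ↥Lz →* G := MonoidHom.mk' (fun k => (k : G) * x * (k : G)⁻¹ * x⁻¹) fun k k' => by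
      have h := (hvz k' (k : G) (hcz _ k.2).1).eq
      calc ((k : G) * k') * x * ((k : G) * k')⁻¹ * x⁻¹
          = (k : G) * ((k' : G) * x * (k' : G)⁻¹ * x⁻¹) * (x * (k : G)⁻¹ * x⁻¹) := by group
        _ = ((k' : G) * x * (k' : G)⁻¹ * x⁻¹) * ((k : G) * x * (k : G)⁻¹ * x⁻¹) := by rw [h]; group
        _ = _ := (hvz k' _ (by
            rcases hval k with e | e <;> rw [e]
            simp)).symm.eq
    have := F.perfect_kill Lz hle hker hsurj f (fun r hr => by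
      show (r : G) * x * (r : G)⁻¹ * x⁻¹ = 1
      rw [← mem_ca.1 hxa r hr, mul_inv_cancel_right, mul_inv_cancel]) (fun k k' => hvz k' _ (by
      rcases hval k with e | e <;> show f k * z = z * f k <;> simp only [f, MonoidHom.mk'_apply] <;> rw [e]
      simp)) k
    exact mul_inv_eq_iff_eq_mul.1 (mul_inv_eq_one.1 this)
  intro k hk a ha
  obtain ⟨τa, haact⟩ := F.exists_s1 ⟨a, ha⟩
  have hmem : ∀ k : ↥Lz, (k : G)⁻¹ * a * k * a⁻¹ ∈ Q ∧ (k : G)⁻¹ * a * k * a⁻¹ ∈ ca Q b := by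
    intro k
    obtain ⟨τ, hkact, -⟩ := F.s0_spec ⟨k, hle k.2⟩
    obtain rfl := ht1 k _ _ hkact
    refine ⟨F.mem_Q_of_acts_one ?_, mul_mem (mem_ca.2 fun x hx => ?_) (inv_mem ha)⟩
    · simpa using F.acts_mul (F.acts_mul (F.acts_mul (F.acts_inv hkact) haact) hkact) (F.acts_inv haact)
    · obtain ⟨hxQ, hxb⟩ := mem_rOf.1 hx
      obtain ⟨hkz, hkb⟩ := hcz _ k.2
      have hx' : (k : G) * x * (k : G)⁻¹ ∈ rOf Q b := mem_rOf.2 ⟨S.norm _ hkz x hxQ,
        (Commute.mul_left (Commute.mul_left hkb hxb) (Commute.inv_left hkb)).eq⟩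
      calc (k : G)⁻¹ * a * k * x = (k : G)⁻¹ * (a * ((k : G) * x * (k : G)⁻¹)) * k := by group
        _ = x * ((k : G)⁻¹ * a * k) := by rw [mem_ca.1 ha _ hx']; group
  have hcomm : ∀ k k' : ↥Lz, (k : G) * ((k' : G)⁻¹ * a * k' * a⁻¹) = ((k' : G)⁻¹ * a * k' * a⁻¹) * k :=
    fun k k' => hQ1 _ (hmem k').1 (hmem k').2 k
  let f : ↥Lz →* G := MonoidHom.mk' (fun k => (k : G)⁻¹ * a * k * a⁻¹) fun k k' => by
    have h := hcomm k' k
    calc ((k : G) * k')⁻¹ * a * ((k : G) * k') * a⁻¹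
        = (k' : G)⁻¹ * ((k : G)⁻¹ * a * k * a⁻¹) * (a * k' * a⁻¹) := by group
      _ = (k' : G)⁻¹ * ((k : G)⁻¹ * a * k * a⁻¹) * k' * ((k' : G)⁻¹ * a * k' * a⁻¹) := by group
      _ = _ := by rw [mul_assoc (k' : G)⁻¹, ← h, inv_mul_cancel_left]
  have hfR : ∀ r : ↥Lz, (r : G) ∈ rOf Q b → f r = 1 := fun r hr => by
    show (r : G)⁻¹ * a * r * a⁻¹ = 1
    rw [mul_assoc _ a, mem_ca.1 ha r hr, inv_mul_cancel_left, mul_inv_cancel]
  have hπ : ∀ k, π (f k) = 0 := by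
    let f' : ↥Lz →* Multiplicative V := MonoidHom.mk' (fun k => Multiplicative.ofAdd (π (f k))) fun k k' => by
      show Multiplicative.ofAdd (π (f (k * k'))) = _
      rw [map_mul f]
      show Multiplicative.ofAdd (π (((k : G)⁻¹ * a * k * a⁻¹) * ((k' : G)⁻¹ * a * k' * a⁻¹))) = _
      rw [S.π_mul _ (hmem k).1 _ (hmem k').1]; rfl
    intro k
    exact Multiplicative.ofAdd.injective (F.perfect_kill Lz hle hker hsurj f' (fun r hr => by
      show Multiplicative.ofAdd (π (f r)) = 1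
      rw [hfR r hr, S.π_one]; rfl) (fun x y => Commute.all _ _) k)
  have := F.perfect_kill Lz hle hker hsurj f hfR (fun x y => by
    rcases (S.π_ker _ (hmem y).1).1 (hπ y) with e | e
    · show Commute (f x) (f y)
      rw [show f y = 1 from e]; exact Commute.one_right _
    · show Commute (f x) (f y)
      rw [show f y = z from e]; exact S.mem_cz (hmem x).1) ⟨k, hk⟩
  calc k * a = k * ((k⁻¹ * a * k * a⁻¹) * a) := by rw [show k⁻¹ * a * k * a⁻¹ = 1 from this, one_mul]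
    _ = a * k := by group

end Fr

namespace Five

variable {S : Co z Q π} {b u g h : G} {ι₀ ι₁ : U4 → V} (K : Five S b u g h ι₀ ι₁)
include K

/-- The intersection of the centralizers of `C_Q(b)` and of its conjugate is `A₅`. -/
theorem inter_iso (hnew : ∀ a ∈ ca Q b, ∀ r ∈ rOf Q b, r * u = u * r → a * (h⁻¹ * r * h) = h⁻¹ * r * h * a) :
    Nonempty (↥(ca Q b ⊓ (ca Q b).map (MulAut.conj h).toMonoidHom) ≃* alternatingGroup (Fin 5)) := by
  classical
  have F := K.F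
  obtain ⟨i, hu⟩ := K.exists_u_pt
  obtain ⟨j, hj⟩ := pt_pair i
  set y₁ := S.sec (ι₀ (pt j)) with hy₁
  have hy₁Q : y₁ ∈ Q := S.sec_mem _
  have hy₁R : y₁ ∈ rOf Q b := mem_rOf.2 ⟨hy₁Q, F.sec_comm _⟩
  have hy₁u : y₁ * u * y₁⁻¹ = u * z := by
    rw [S.conj_eq K.p.u_mem hy₁Q, S.π_sec, hu, F.D0.polar, hj, zp_one]
  have hy₁y₁ : y₁ * y₁ = 1 := by rw [S.sq_eq hy₁Q, S.π_sec, F.D0.quad, (pt_facts.2.1 j).1, zp_zero]
  set A' := (ca Q b).map (MulAut.conj h).toMonoidHom with hA'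
  set X := ca Q b ⊓ A' with hX
  -- the common supergroup
  set Y := Subgroup.centralizer (insert z {r : G | r ∈ rOf Q b ∧ r * u = u * r}) with hY
  have memY : ∀ c, c ∈ Y ↔ c * z = z * c ∧ ∀ r ∈ rOf Q b, r * u = u * r → c * r = r * c := fun c => by
    rw [hY, Subgroup.mem_centralizer_iff]
    constructor
    · intro h
      exact ⟨(h z (Set.mem_insert _ _)).symm, fun r hr hru => (h r (Set.mem_insert_of_mem _ ⟨hr, hru⟩)).symm⟩
    · rintro ⟨h1, h2⟩ r (rfl | ⟨hr, hru⟩)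
      · exact h1.symm
      · exact (h2 r hr hru).symm
  have hAY : ca Q b ≤ Y := fun a ha => (memY a).2
    ⟨mem_ca.1 ha z K.z_mem, fun r hr _ => mem_ca.1 ha r hr⟩
  have hzu : z * u = u * z := K.p.uz.symm
  have hA'Y : A' ≤ Y := by
    rintro _ ⟨a, ha, rfl⟩
    have key : ∀ r ∈ rOf Q b, r * u = u * r → h * a * h⁻¹ * r = r * (h * a * h⁻¹) := fun r hr hru => by
      calc h * a * h⁻¹ * r = h * (a * (h⁻¹ * r * h)) * h⁻¹ := by group
        _ = r * (h * a * h⁻¹) := by rw [hnew a ha r hr hru]; group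
    exact (memY _).2 ⟨key z K.z_mem hzu, key⟩
  -- bound on `Y`
  set T := {x : G | x ∈ Q ∧ x * x = 1 ∧ ∀ r ∈ rOf Q b, r * u = u * r → x * r * x⁻¹ = y₁ * r * y₁⁻¹} with hT
  set Z := {x : G | x ∈ Q ∧ (projU ι₀ (π x) = 0 ∨ projU ι₀ (π x) = pt i)} with hZdef
  have hZcard : Nat.card Z = 64 := by
    have h := S.card_pre (fun v : V => projU ι₀ v = 0 ∨ projU ι₀ v = pt i)
    have hc : (Finset.univ.filter fun v : V => projU ι₀ v = 0 ∨ projU ι₀ v = pt i).card = 32 := by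
      rw [Finset.filter_or, Finset.card_union_of_disjoint]
      · have h0 : (Finset.univ.filter fun v : V => projU ι₀ v = 0).card = 16 := by
          rw [← Fintype.card_subtype, ← Nat.card_eq_fintype_card, F.D0.card_perp]
        have h1 : (Finset.univ.filter fun v : V => projU ι₀ v = pt i).card = 16 := by
          rw [← h0]
          refine Finset.card_bij (fun v _ => v + ι₀ (pt i)) (fun v hv => ?_) (fun v _ w _ e => add_right_cancel e)
            fun w hw => ⟨w + ι₀ (pt i), ?_, by rw [add_assoc, add_self_V, add_zero]⟩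
          · rw [Finset.mem_filter] at hv ⊢
            exact ⟨Finset.mem_univ _, by rw [F.D0.proj_add, hv.2, F.D0.proj_ι, add_self_U]⟩
          · rw [Finset.mem_filter] at hw ⊢
            exact ⟨Finset.mem_univ _, by rw [F.D0.proj_add, hw.2, F.D0.proj_ι, zero_add]⟩
        rw [h0, h1]
      · rw [Finset.disjoint_filter]
        intro v _ e e'
        exact (pt_facts.2.1 i).2 (e'.symm.trans e)
    rw [hc] at h
    exact h
  have hTu : ∀ x ∈ T, x * u * x⁻¹ = u * z := fun x hx => by rw [hx.2.2 u K.u_mem rfl, hy₁u]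
  have hTZ : ∀ x ∈ T, y₁⁻¹ * x ∈ Z := by
    rintro x ⟨hxQ, -, hx⟩
    have hcQ : y₁⁻¹ * x ∈ Q := mul_mem (inv_mem hy₁Q) hxQ
    refine ⟨hcQ, pt_perp_perp i _ fun d hd => ?_⟩
    have hr : S.sec (ι₀ d) ∈ rOf Q b := mem_rOf.2 ⟨S.sec_mem _, F.sec_comm d⟩
    have hru : S.sec (ι₀ d) * u = u * S.sec (ι₀ d) :=
      (S.comm_iff (S.sec_mem _) K.p.u_mem).2 (by rw [S.π_sec, hu, F.D0.polar, hd])
    have hc : y₁⁻¹ * x * S.sec (ι₀ d) = S.sec (ι₀ d) * (y₁⁻¹ * x) := by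
      calc y₁⁻¹ * x * S.sec (ι₀ d) = y₁⁻¹ * (x * S.sec (ι₀ d) * x⁻¹) * x := by group
        _ = S.sec (ι₀ d) * (y₁⁻¹ * x) := by rw [hx _ hr hru]; group
    have h2 := (S.comm_iff hcQ (S.sec_mem _)).1 hc
    rwa [S.π_sec, F.D0.polar_proj] at h2
  have hT32 : Nat.card T ≤ 32 := by
    let f : T ⊕ T → Z := fun s => match s with
      | .inl x => ⟨y₁⁻¹ * x, hTZ x x.2⟩
      | .inr x => ⟨y₁⁻¹ * x * u, mul_mem (hTZ x x.2).1 K.p.u_mem, by
          rw [S.π_mul _ (hTZ x x.2).1 _ K.p.u_mem, F.D0.proj_add, hu, F.D0.proj_ι]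
          rcases (hTZ x x.2).2 with e | e <;> rw [e]
          · exact Or.inr (zero_add _)
          · exact Or.inl (add_self_U _)⟩
    have hcross : ∀ x ∈ T, ∀ x' ∈ T, x ≠ x' * u := by
      intro x hx x' hx' e
      have h1 : x' * u * (x' * u) = 1 := e ▸ hx.2.1
      have h2 : x' * u = u * z * x' := by rw [← hTu x' hx']; group
      have h3 : x' * u * (x' * u) = u * z * u := by
        calc x' * u * (x' * u) = (u * z * x') * (x' * u) := by rw [h2]
          _ = u * z * (x' * x') * u := by group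
          _ = u * z * u := by rw [hx'.2.1, mul_one]
      rw [h3, mul_assoc, hzu, ← mul_assoc, K.p.uu, one_mul] at h1
      exact S.extra.z_ne h1
    have hf : Function.Injective f := by
      rintro (⟨x, hx⟩ | ⟨x, hx⟩) (⟨x', hx'⟩ | ⟨x', hx'⟩) e <;> have e' := congrArg Subtype.val e <;>
        simp only [f] at e'
      · exact congrArg Sum.inl (Subtype.ext (mul_left_cancel e'))
      · exact absurd (mul_left_cancel (e'.trans (mul_assoc _ _ _))) (hcross x hx x' hx')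
      · exact absurd (mul_left_cancel (e'.symm.trans (mul_assoc _ _ _))) (hcross x' hx' x hx)
      · exact congrArg Sum.inr (Subtype.ext (mul_left_cancel (mul_right_cancel e')))
    have h := Nat.card_le_card_of_injective f hf
    rw [Nat.card_sum, hZcard] at h
    omega
  have hYT : ∀ c ∈ Y, c * y₁ * c⁻¹ ∈ T := by
    intro c hc
    obtain ⟨hcz, hcr⟩ := (memY c).1 hc
    refine ⟨S.norm c hcz _ hy₁Q, by rw [conj_mul, hy₁y₁]; group, fun r hr hru => ?_⟩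
    have h' : y₁ * r * y₁⁻¹ = r ∨ y₁ * r * y₁⁻¹ = r * z := by
      rw [S.conj_eq (mem_rOf.1 hr).1 hy₁Q]
      rcases two_cases (B (π y₁) (π r)) with e | e <;> rw [e]
      · exact Or.inl (by rw [zp_zero, mul_one])
      · exact Or.inr (by rw [zp_one])
    have hfix : c * (y₁ * r * y₁⁻¹) = y₁ * r * y₁⁻¹ * c := by
      rcases h' with e | e <;> rw [e]
      · exact hcr r hr hru
      · exact (Commute.mul_right (hcr r hr hru) hcz).eq
    calc c * y₁ * c⁻¹ * r * (c * y₁ * c⁻¹)⁻¹ = c * (y₁ * (c⁻¹ * r * c) * y₁⁻¹) * c⁻¹ := by group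
      _ = c * (y₁ * r * y₁⁻¹) * c⁻¹ := by
        rw [mul_assoc c⁻¹, ← hcr r hr hru, inv_mul_cancel_left]
      _ = y₁ * r * y₁⁻¹ := by rw [hfix, mul_inv_cancel_right]
  have hstab : ∀ c ∈ Y, c * y₁ = y₁ * c → c ∈ ca Q b := by
    intro c hc hcy
    obtain ⟨hcz, hcr⟩ := (memY c).1 hc
    refine mem_ca.2 fun r hr => ?_
    by_cases hru : r * u = u * r
    · exact hcr r hr hru
    have hrQ := (mem_rOf.1 hr).1
    have hru' : r * u * r⁻¹ = u * z := by
      rw [S.conj_eq K.p.u_mem hrQ]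
      rcases two_cases (B (π r) (π u)) with e | e
      · exact absurd ((S.comm_iff hrQ K.p.u_mem).2 e) hru
      · rw [e, zp_one]
    have hm : r * y₁ ∈ rOf Q b := mul_mem hr hy₁R
    have hcomm : r * y₁ * u = u * (r * y₁) := by
      calc r * y₁ * u = r * (y₁ * u * y₁⁻¹) * y₁ := by group
        _ = (r * u * r⁻¹) * (r * z * r⁻¹) * (r * y₁) := by rw [hy₁u]; group
        _ = u * z * z * (r * y₁) := by rw [hru', S.mem_cz hrQ, mul_inv_cancel_right]
        _ = u * (r * y₁) := by rw [mul_assoc u, S.extra.z_sq, mul_one]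
    have h1 := hcr _ hm hcomm
    have := (Commute.mul_right (show Commute c (r * y₁) from h1) (Commute.inv_right hcy)).eq
    rwa [mul_inv_cancel_right] at this
  have hYcard : Nat.card ↥Y ≤ 32 * 1920 := by
    have hrep : ∀ x : T, ∃ c : G, (∃ c' ∈ Y, c' * y₁ * c'⁻¹ = (x : G)) → c ∈ Y ∧ c * y₁ * c⁻¹ = (x : G) :=
      fun x => by
        by_cases hx : ∃ c' ∈ Y, c' * y₁ * c'⁻¹ = (x : G)
        · obtain ⟨c, h1, h2⟩ := hx; exact ⟨c, fun _ => ⟨h1, h2⟩⟩
        · exact ⟨1, fun h => absurd h hx⟩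
    choose rep hrepspec using hrep
    let xT : ↥Y → T := fun c => ⟨(c : G) * y₁ * (c : G)⁻¹, hYT c c.2⟩
    let f : ↥Y → T × ↥(ca Q b) := fun c => (xT c, ⟨(rep (xT c))⁻¹ * c, by
      obtain ⟨h1, h2⟩ := hrepspec (xT c) ⟨c, c.2, rfl⟩
      refine hstab _ (mul_mem (inv_mem h1) c.2) ?_
      calc (rep (xT c))⁻¹ * c * y₁ = (rep (xT c))⁻¹ * ((c : G) * y₁ * (c : G)⁻¹) * c := by group
        _ = y₁ * ((rep (xT c))⁻¹ * c) := by
          rw [show (c : G) * y₁ * (c : G)⁻¹ = rep (xT c) * y₁ * (rep (xT c))⁻¹ from h2.symm]; group⟩)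
    have hf : Function.Injective f := fun c d e => by
      have h1 : xT c = xT d := congrArg Prod.fst e
      have h2 := congrArg (fun p : T × ↥(ca Q b) => (p.2 : G)) e
      simp only [f] at h2
      rw [h1] at h2
      exact Subtype.ext (mul_left_cancel h2)
    have h := Nat.card_le_card_of_injective f hf
    rw [Nat.card_prod, F.card_ca] at h
    exact h.trans (Nat.mul_le_mul_right _ hT32)
  -- product count
  have hX60 : 60 ≤ Nat.card ↥X := by
    have hrep : ∀ c : G, ∃ p : G × G, (∃ a ∈ ca Q b, ∃ a' ∈ A', a * a' = c) →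
        p.1 ∈ ca Q b ∧ p.2 ∈ A' ∧ p.1 * p.2 = c := fun c => by
      by_cases hc : ∃ a ∈ ca Q b, ∃ a' ∈ A', a * a' = c
      · obtain ⟨a, ha, a', ha', e⟩ := hc; exact ⟨(a, a'), fun _ => ⟨ha, ha', e⟩⟩
      · exact ⟨(1, 1), fun h => absurd h hc⟩
    choose rep hrepspec using hrep
    let f : ↥(ca Q b) × ↥A' → ↥Y × ↥X := fun p =>
      (⟨(p.1 : G) * p.2, mul_mem (hAY p.1.2) (hA'Y p.2.2)⟩,
        ⟨(rep ((p.1 : G) * p.2)).1⁻¹ * p.1, by
          obtain ⟨h1, h2, h3⟩ := hrepspec ((p.1 : G) * p.2) ⟨p.1, p.1.2, p.2, p.2.2, rfl⟩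
          generalize rep ((p.1 : G) * p.2) = q at h1 h2 h3 ⊢
          refine Subgroup.mem_inf.2 ⟨mul_mem (inv_mem h1) p.1.2, ?_⟩
          have : q.1⁻¹ * p.1 = q.2 * (p.2 : G)⁻¹ := by
            rw [eq_mul_inv_iff_mul_eq, mul_assoc, ← h3, inv_mul_cancel_left]
          rw [this]
          exact mul_mem h2 (inv_mem p.2.2)⟩)
    have hf : Function.Injective f := by
      intro p p' e
      have h1 : (p.1 : G) * p.2 = p'.1 * p'.2 := congrArg (fun t : ↥Y × ↥X => (t.1 : G)) e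
      have h2 := congrArg (fun t : ↥Y × ↥X => (t.2 : G)) e
      simp only [f] at h2
      rw [h1] at h2
      have h3 : p.1 = p'.1 := Subtype.ext (mul_left_cancel h2)
      rw [h3] at h1
      exact Prod.ext h3 (Subtype.ext (mul_left_cancel h1))
    have hcard := Nat.card_le_card_of_injective f hf
    rw [Nat.card_prod, Nat.card_prod, F.card_ca, hA',
      Subgroup.card_map_of_injective (MulAut.conj h).injective, F.card_ca] at hcard
    have h2 := hcard.trans (Nat.mul_le_mul_right _ hYcard)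
    omega
  -- `X` meets `Q` trivially
  have hXQ : ∀ x ∈ X, x ∈ Q → x = 1 := by
    intro x hx hxQ
    obtain ⟨hxa, a, ha, he⟩ := Subgroup.mem_inf.1 hx
    obtain ⟨y, hy, r, hr, hsplit⟩ := K.hsplit
    have hxy : x * y = y * x := mem_ca.1 hxa y hy
    have hxr : x * (h * r * h⁻¹) = h * r * h⁻¹ * x := by
      rw [← he]
      show h * a * h⁻¹ * _ = _ * (h * a * h⁻¹)
      rw [conj_mul, conj_mul, mem_ca.1 ha r hr]
    have hxh : x * h = h * x := by rw [hsplit]; exact (Commute.mul_right hxy hxr).eq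
    have hsym : g⁻¹ * x * g ∈ Q := (S.conj_Q_eq (g := g) (h := h) (K.p.conj.trans K.hconj.symm)).2 (by
      rw [mul_assoc, hxh, inv_mul_cancel_left]; exact hxQ)
    have hxy₁ : x * y₁ = y₁ * x := mem_ca.1 hxa y₁ hy₁R
    rcases K.p.meet_cases hxQ hsym with e | e | e | e
    · exact e
    · exfalso
      apply K.p.u_ne_z
      rw [← K.hconj, ← e, ← hxh, mul_inv_cancel_right]
    all_goals
      exfalso
      rw [e] at hxy₁
      apply S.extra.z_ne
    · rw [← hxy₁, mul_inv_cancel_right, left_eq_mul] at hy₁u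
      exact hy₁u
    · have h2 : y₁ * u * y₁⁻¹ * (y₁ * z * y₁⁻¹) = u * z := by
        calc y₁ * u * y₁⁻¹ * (y₁ * z * y₁⁻¹) = y₁ * (u * z) * y₁⁻¹ := by group
          _ = u * z := by rw [← hxy₁, mul_inv_cancel_right]
      rw [hy₁u, S.mem_cz hy₁Q, mul_inv_cancel_right, mul_assoc, S.extra.z_sq, mul_one] at h2
      exact left_eq_mul.1 h2
  have hle : X ≤ ca Q b := inf_le_left
  let φ := F.s1.comp (Subgroup.inclusion hle)
  have hφinj : Function.Injective φ := (injective_iff_map_eq_one φ).2 fun x hx =>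
    Subtype.ext (hXQ x x.2 (F.s1_ker.1 hx))
  refine ⟨MulEquiv.ofBijective φ (hφinj.bijective_of_nat_card_le ?_)⟩
  have : Nat.card ↥(alternatingGroup (Fin 5)) = 60 := by rw [Nat.card_eq_fintype_card]; decide
  omega

end Five

end CfsgLib.Characterizations.CoType
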