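import Cfsg.Agent.Lib.Characterizations.CoType.Five.Image
import Cfsg.Agent.Lib.Fusion.Thompson
import Mathlib.GroupTheory.SpecificGroups.Alternating

/-!
# An element of order five of `C(z)` with minus fixed space, and its two subspaces
-/

set_option autoImplicit false
set_option linter.style.haveILetI false
set_option linter.unusedSectionVars false
set_option maxRecDepth 10000

namespace CfsgLib.Characterizations.CoType

variable {G : Type*} [Group G] [Finite G] {z : G} {Q : Subgroup G} {π : G → V}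

/-- The decomposition of the space attached to an element of order five. -/
structure Fr (S : Co z Q π) (b : G) (ι₀ ι₁ : U4 → V) : Prop where
  bz : b * z = z * b
  ord : orderOf b = 5
  D0 : Dec ι₀
  D1 : Dec ι₁
  orth : ∀ c d, B (ι₀ c) (ι₁ d) = 0
  fix0 : ∀ c, S.act b (ι₀ c) = ι₀ c
  cyc1 : ∀ c, S.act b (ι₁ c) = ι₁ (pa cyc c)

/-- An element of `C(z)` acting on both subspaces through permutations of their points. -/
structure Acts (S : Co z Q π) (ι₀ ι₁ : U4 → V) (c : G) (σ τ : Equiv.Perm (Fin 5)) : Prop where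
  cz : c * z = z * c
  on0 : ∀ a, S.act c (ι₀ a) = ι₀ (pa σ a)
  on1 : ∀ a, S.act c (ι₁ a) = ι₁ (pa τ a)

set_option maxRecDepth 100000 in
theorem pa_cyc_fixed : ∀ d : U4, pa cyc d = d → d = 0 := by decide +kernel

theorem perm_even_induction {p : Equiv.Perm (Fin 5) → Prop} (h1 : p 1) (hmul : ∀ a b, p a → p b → p (a * b))
    (h3 : ∀ σ : Equiv.Perm (Fin 5), σ.IsThreeCycle → p σ) {σ : Equiv.Perm (Fin 5)}
    (hσ : Equiv.Perm.sign σ = 1) : p σ := by
  have hm : σ ∈ Subgroup.closure {σ : Equiv.Perm (Fin 5) | σ.IsThreeCycle} := by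
    rw [Equiv.Perm.closure_three_cycles_eq_alternating]; exact hσ
  clear hσ
  induction hm using Subgroup.closure_induction'' with
  | one => exact h1
  | mem x hx => exact h3 x hx
  | inv_mem x hx => exact h3 _ (Equiv.Perm.IsThreeCycle.inv hx)
  | mul x y _ _ ha hb =>
    exact hmul x y ha hb

namespace Fr

variable {S : Co z Q π} {b : G} {ι₀ ι₁ : U4 → V} (F : Fr S b ι₀ ι₁)
include F

theorem orth' (c d : U4) : B (ι₁ c) (ι₀ d) = 0 := by rw [B_comm]; exact F.orth d c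

theorem proj01 (d : U4) : projU ι₀ (ι₁ d) = 0 := F.D0.proj_eq_zero fun c => F.orth' d c

theorem proj10 (c : U4) : projU ι₁ (ι₀ c) = 0 := F.D1.proj_eq_zero fun d => F.orth c d

theorem proj_pair (c d : U4) : projU ι₀ (ι₀ c + ι₁ d) = c ∧ projU ι₁ (ι₀ c + ι₁ d) = d :=
  ⟨by rw [F.D0.proj_add, F.D0.proj_ι, F.proj01, add_zero],
    by rw [F.D1.proj_add, F.D1.proj_ι, F.proj10, zero_add]⟩

/-- Every vector is the sum of its two components. -/
theorem decomp (x : V) : x = ι₀ (projU ι₀ x) + ι₁ (projU ι₁ x) := by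
  have hinj : Function.Injective fun p : U4 × U4 => ι₀ p.1 + ι₁ p.2 := fun p p' h =>
    Prod.ext (by rw [← (F.proj_pair p.1 p.2).1, ← (F.proj_pair p'.1 p'.2).1]; exact congrArg _ h)
      (by rw [← (F.proj_pair p.1 p.2).2, ← (F.proj_pair p'.1 p'.2).2]; exact congrArg _ h)
  have hb := hinj.bijective_of_nat_card_le (le_of_eq (by
    rw [Nat.card_prod, Nat.card_fun, Nat.card_fun, Nat.card_zmod, Nat.card_fin, Nat.card_fin]; norm_num))
  obtain ⟨⟨c, d⟩, rfl⟩ := hb.2 x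
  rw [(F.proj_pair c d).1, (F.proj_pair c d).2]

theorem fixed_iff (x : V) : S.act b x = x ↔ projU ι₁ x = 0 := by
  constructor
  · intro h
    apply pa_cyc_fixed
    have := congrArg (projU ι₁) h
    conv_lhs at this => rw [F.decomp x, (S.act_iso F.bz).add, F.fix0, F.cyc1, (F.proj_pair _ _).2]
    exact this
  · intro h
    rw [F.decomp x, h, F.D1.zero, add_zero, F.fix0]

theorem acts_b : Acts S ι₀ ι₁ b 1 cyc := ⟨F.bz, fun a => by rw [pa_one]; exact F.fix0 a, F.cyc1⟩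

theorem acts_Q {x : G} (hx : x ∈ Q) : Acts S ι₀ ι₁ x 1 1 :=
  ⟨S.mem_cz hx, fun a => by rw [pa_one]; exact S.act_Q hx _, fun a => by rw [pa_one]; exact S.act_Q hx _⟩

theorem acts_mul {c d : G} {σ τ σ' τ' : Equiv.Perm (Fin 5)} (h : Acts S ι₀ ι₁ c σ τ)
    (h' : Acts S ι₀ ι₁ d σ' τ') : Acts S ι₀ ι₁ (c * d) (σ * σ') (τ * τ') :=
  ⟨(Commute.mul_left (show Commute c z from h.cz) h'.cz).eq,
    fun a => by rw [S.act_mul h.cz h'.cz, h'.on0, h.on0, pa_mul],
    fun a => by rw [S.act_mul h.cz h'.cz, h'.on1, h.on1, pa_mul]⟩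

theorem acts_inv {c : G} {σ τ : Equiv.Perm (Fin 5)} (h : Acts S ι₀ ι₁ c σ τ) :
    Acts S ι₀ ι₁ c⁻¹ σ⁻¹ τ⁻¹ :=
  ⟨(Commute.inv_left (show Commute c z from h.cz)).eq, fun a => by
    have := h.on0 (pa σ⁻¹ a)
    rw [← pa_mul, mul_inv_cancel, pa_one] at this
    rw [← this, S.act_inv_act h.cz],
  fun a => by
    have := h.on1 (pa τ⁻¹ a)
    rw [← pa_mul, mul_inv_cancel, pa_one] at this
    rw [← this, S.act_inv_act h.cz]⟩

theorem acts_unique {c : G} {σ τ σ' τ' : Equiv.Perm (Fin 5)} (h : Acts S ι₀ ι₁ c σ τ)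
    (h' : Acts S ι₀ ι₁ c σ' τ') : σ = σ' ∧ τ = τ' :=
  ⟨pa_inj fun a => F.D0.inj ((h.on0 a).symm.trans (h'.on0 a)),
    pa_inj fun a => F.D1.inj ((h.on1 a).symm.trans (h'.on1 a))⟩

theorem act_eq {c d : G} {σ τ : Equiv.Perm (Fin 5)} (h : Acts S ι₀ ι₁ c σ τ) (h' : Acts S ι₀ ι₁ d σ τ)
    (x : V) : S.act c x = S.act d x := by
  rw [F.decomp x, (S.act_iso h.cz).add, (S.act_iso h'.cz).add, h.on0, h'.on0, h.on1, h'.on1]

theorem mem_Q_of_acts_one {c : G} (h : Acts S ι₀ ι₁ c 1 1) : c ∈ Q :=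
  S.mem_of_act_id h.cz fun x => by rw [F.act_eq h (F.acts_Q (one_mem Q)), S.act_one]

theorem mem_Q_of_acts_eq {c d : G} {σ τ : Equiv.Perm (Fin 5)} (h : Acts S ι₀ ι₁ c σ τ)
    (h' : Acts S ι₀ ι₁ d σ τ) : c⁻¹ * d ∈ Q := by
  have := F.acts_mul (F.acts_inv h) h'
  rw [inv_mul_cancel, inv_mul_cancel] at this
  exact F.mem_Q_of_acts_one this

/-- Elements preserving the first subspace act through permutations. -/
theorem exists_acts {c : G} (hc : c * z = z * c) (hpres : ∀ a, projU ι₁ (S.act c (ι₀ a)) = 0) :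
    ∃ σ τ, Acts S ι₀ ι₁ c σ τ := by
  have hI := S.act_iso hc
  have h0 : ∀ a, S.act c (ι₀ a) = ι₀ (projU ι₀ (S.act c (ι₀ a))) := fun a => by
    conv_lhs => rw [F.decomp (S.act c (ι₀ a)), hpres a, F.D1.zero, add_zero]
  obtain ⟨σ, hσ⟩ := exists_perm (f := fun a => projU ι₀ (S.act c (ι₀ a)))
    (fun a a' => by simp only [F.D0.add, hI.add, F.D0.proj_add])
    (fun a a' e => F.D0.inj (hI.inj ((h0 a).trans ((congrArg ι₀ e).trans (h0 a').symm))))
    fun a => by rw [← F.D0.quad, ← h0, hI.quad, F.D0.quad]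
  have h1 : ∀ a, S.act c (ι₁ a) = ι₁ (projU ι₁ (S.act c (ι₁ a))) := fun a => by
    conv_lhs => rw [F.decomp (S.act c (ι₁ a))]
    have hz : projU ι₀ (S.act c (ι₁ a)) = 0 := F.D0.proj_eq_zero fun d => by
      have hs : pa σ (pa σ⁻¹ d) = d := by rw [← pa_mul, mul_inv_cancel, pa_one]
      rw [← hs, ← hσ, ← h0, hI.polar, F.orth']
    rw [hz, F.D0.zero, zero_add]
  obtain ⟨τ, hτ⟩ := exists_perm (f := fun a => projU ι₁ (S.act c (ι₁ a)))
    (fun a a' => by simp only [F.D1.add, hI.add, F.D1.proj_add])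
    (fun a a' e => F.D1.inj (hI.inj ((h1 a).trans ((congrArg ι₁ e).trans (h1 a').symm))))
    fun a => by rw [← F.D1.quad, ← h1, hI.quad, F.D1.quad]
  exact ⟨σ, τ, hc, fun a => by rw [h0, hσ], fun a => by rw [h1, hτ]⟩

theorem lift0 {σ : Equiv.Perm (Fin 5)} (hσ : Equiv.Perm.sign σ = 1) : ∃ c, Acts S ι₀ ι₁ c σ 1 := by
  refine perm_even_induction (p := fun σ => ∃ c, Acts S ι₀ ι₁ c σ 1) ⟨1, F.acts_Q (one_mem Q)⟩ ?_ ?_ hσ
  · rintro a b ⟨c, hc⟩ ⟨d, hd⟩
    exact ⟨c * d, by simpa using F.acts_mul hc hd⟩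
  · intro σ h3
    have h : toIso (F.D0.ext_iso σ) ^ 3 = 1 := by
      have hmk : ∀ n : ℕ, toIso (F.D0.ext_iso σ) ^ n = toIso (F.D0.ext_iso (σ ^ n)) := by
        intro n
        induction n with
        | zero => exact Subtype.ext (Equiv.ext fun v => ((toIso_apply (F.D0.ext_iso (σ ^ 0)) v).trans
            (by rw [pow_zero]; exact F.D0.ext_one v)).symm)
        | succ n ih =>
          rw [pow_succ, ih]
          exact Subtype.ext (Equiv.ext fun v => by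
            show F.D0.ext (σ ^ n) (F.D0.ext σ v) = F.D0.ext (σ ^ (n + 1)) v
            rw [pow_succ, F.D0.ext_mul])
      rw [hmk, show σ ^ 3 = 1 by rw [← h3.orderOf, pow_orderOf_eq_one]]
      exact Subtype.ext (Equiv.ext fun v => F.D0.ext_one v)
    obtain ⟨c, hc, hf⟩ := S.exists_of_pow_odd (F.D0.ext_iso σ) (n := 3) (by decide) h
    exact ⟨c, hc, fun a => by rw [hf, F.D0.ext_ι],
      fun a => by rw [hf, F.D0.ext_perp _ (F.proj01 a), pa_one]⟩

theorem lift1 {τ : Equiv.Perm (Fin 5)} (hτ : Equiv.Perm.sign τ = 1) : ∃ c, Acts S ι₀ ι₁ c 1 τ := by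
  refine perm_even_induction (p := fun τ => ∃ c, Acts S ι₀ ι₁ c 1 τ) ⟨1, F.acts_Q (one_mem Q)⟩ ?_ ?_ hτ
  · rintro a b ⟨c, hc⟩ ⟨d, hd⟩
    exact ⟨c * d, by simpa using F.acts_mul hc hd⟩
  · intro σ h3
    have h : toIso (F.D1.ext_iso σ) ^ 3 = 1 := by
      have hmk : ∀ n : ℕ, toIso (F.D1.ext_iso σ) ^ n = toIso (F.D1.ext_iso (σ ^ n)) := by
        intro n
        induction n with
        | zero => exact Subtype.ext (Equiv.ext fun v => ((toIso_apply (F.D1.ext_iso (σ ^ 0)) v).trans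
            (by rw [pow_zero]; exact F.D1.ext_one v)).symm)
        | succ n ih =>
          rw [pow_succ, ih]
          exact Subtype.ext (Equiv.ext fun v => by
            show F.D1.ext (σ ^ n) (F.D1.ext σ v) = F.D1.ext (σ ^ (n + 1)) v
            rw [pow_succ, F.D1.ext_mul])
      rw [hmk, show σ ^ 3 = 1 by rw [← h3.orderOf, pow_orderOf_eq_one]]
      exact Subtype.ext (Equiv.ext fun v => F.D1.ext_one v)
    obtain ⟨c, hc, hf⟩ := S.exists_of_pow_odd (F.D1.ext_iso σ) (n := 3) (by decide) h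
    exact ⟨c, hc, fun a => by rw [hf, F.D1.ext_perp _ (F.proj10 a), pa_one],
      fun a => by rw [hf, F.D1.ext_ι]⟩

/-- The two permutations have the same sign. -/
theorem sign_eq {c : G} {σ τ : Equiv.Perm (Fin 5)} (h : Acts S ι₀ ι₁ c σ τ) :
    Equiv.Perm.sign σ = Equiv.Perm.sign τ := by
  by_contra hne
  have h01 : (0 : Fin 5) ≠ 1 := by decide
  have hs := Equiv.Perm.sign_swap (α := Fin 5) h01
  rcases Int.units_eq_one_or (Equiv.Perm.sign σ) with hσ | hσ <;>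
    rcases Int.units_eq_one_or (Equiv.Perm.sign τ) with hτ | hτ <;> rw [hσ, hτ] at hne
  · exact hne rfl
  · obtain ⟨c₀, hc₀⟩ := F.lift0 (σ := σ⁻¹) (by rw [Equiv.Perm.sign_inv, hσ])
    obtain ⟨c₁, hc₁⟩ := F.lift1 (τ := τ⁻¹ * Equiv.swap 0 1)
      (by rw [Equiv.Perm.sign_mul, Equiv.Perm.sign_inv, hτ, hs]; decide)
    have hd : Acts S ι₀ ι₁ (c * c₀ * c₁) 1 (Equiv.swap 0 1) := by
      have := F.acts_mul (F.acts_mul h hc₀) hc₁
      rwa [mul_inv_cancel, one_mul, mul_one, mul_inv_cancel_left] at this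
    refine S.no_trans hd.cz (r := ι₁ (pt 0 + pt 1)) (by rw [F.D1.quad]; exact (swap_transvection 0 1 h01).1)
      fun x => ?_
    rw [← F.D1.ext_swap h01]
    conv_lhs => rw [F.decomp x, (S.act_iso hd.cz).add, hd.on0, hd.on1, pa_one]
    conv_rhs => rw [F.decomp x, F.D1.ext_add, F.D1.ext_perp _ (F.proj10 _), F.D1.ext_ι]
  · obtain ⟨c₀, hc₀⟩ := F.lift1 (τ := τ⁻¹) (by rw [Equiv.Perm.sign_inv, hτ])
    obtain ⟨c₁, hc₁⟩ := F.lift0 (σ := σ⁻¹ * Equiv.swap 0 1)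
      (by rw [Equiv.Perm.sign_mul, Equiv.Perm.sign_inv, hσ, hs]; decide)
    have hd : Acts S ι₀ ι₁ (c * c₀ * c₁) (Equiv.swap 0 1) 1 := by
      have := F.acts_mul (F.acts_mul h hc₀) hc₁
      rwa [mul_inv_cancel, one_mul, mul_one, mul_inv_cancel_left] at this
    refine S.no_trans hd.cz (r := ι₀ (pt 0 + pt 1)) (by rw [F.D0.quad]; exact (swap_transvection 0 1 h01).1)
      fun x => ?_
    rw [← F.D0.ext_swap h01]
    conv_lhs => rw [F.decomp x, (S.act_iso hd.cz).add, hd.on0, hd.on1, pa_one]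
    conv_rhs => rw [F.decomp x, F.D0.ext_add, F.D0.ext_perp _ (F.proj01 _), F.D0.ext_ι]
  · exact hne rfl

/-- Membership in `C_Q(b)`. -/
theorem mem_R {x : G} (hx : x ∈ Q) : x * b = b * x ↔ projU ι₁ (π x) = 0 := by
  rw [← F.fixed_iff, S.act_π F.bz hx]
  refine ⟨fun h => by rw [← h, mul_inv_cancel_right], fun h => ?_⟩
  exact S.comm_of_fixed F.bz (F.ord ▸ pow_orderOf_eq_one b) hx (by rw [S.act_π F.bz hx, h])

theorem R_π {x : G} (hx : x ∈ Q) (hb : x * b = b * x) : π x = ι₀ (projU ι₀ (π x)) := by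
  conv_lhs => rw [F.decomp (π x), (F.mem_R hx).1 hb, F.D1.zero, add_zero]

theorem sec_comm (a : U4) : S.sec (ι₀ a) * b = b * S.sec (ι₀ a) :=
  (F.mem_R (S.sec_mem _)).2 (by rw [S.π_sec, F.proj10])

/-- Elements commuting with `b` act through permutations, on the second subspace through powers of the cycle. -/
theorem acts_of_comm {c : G} (hc : c * z = z * c) (hb : c * b = b * c) :
    ∃ σ τ, Acts S ι₀ ι₁ c σ τ ∧ (∃ k : ℕ, τ = cyc ^ k) ∧ Equiv.Perm.sign σ = 1 := by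
  obtain ⟨σ, τ, h⟩ := F.exists_acts hc fun a => by
    rw [← F.fixed_iff, ← S.act_mul F.bz hc, ← hb, S.act_mul hc F.bz, F.fix0]
  have h2 := F.acts_unique (hb ▸ F.acts_mul h F.acts_b) (F.acts_mul F.acts_b h)
  have hτ : τ = cyc ^ (τ 0).val := centralizer_cyc τ fun i => by
    have e := congrArg (fun k : Equiv.Perm (Fin 5) => k i) h2.2
    simpa [Equiv.Perm.mul_apply, cyc_apply.1] using e
  exact ⟨σ, τ, h, ⟨_, hτ⟩, by rw [F.sign_eq h, hτ, map_pow, cyc_apply.2.2, one_pow]⟩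

/-- Lifts commuting with `b`. -/
theorem lift_comm {σ : Equiv.Perm (Fin 5)} (hσ : Equiv.Perm.sign σ = 1) :
    ∃ c, c * b = b * c ∧ Acts S ι₀ ι₁ c σ 1 := by
  haveI : Fact (Nat.Prime 5) := ⟨by norm_num⟩
  obtain ⟨c, hc⟩ := F.lift0 hσ
  set b' := c * b * c⁻¹ with hb'
  have hab' : Acts S ι₀ ι₁ b' 1 cyc := by
    simpa using F.acts_mul (F.acts_mul hc F.acts_b) (F.acts_inv hc)
  have hQ : b⁻¹ * b' ∈ Q := F.mem_Q_of_acts_eq F.acts_b hab'
  set H := Q ⊔ Subgroup.zpowers b with hH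
  have hbH : b ∈ H := Subgroup.mem_sup_right (Subgroup.mem_zpowers b)
  have hb'H : b' ∈ H := by simpa using mul_mem hbH (Subgroup.mem_sup_left hQ (T := Subgroup.zpowers b))
  have hnorm : Subgroup.zpowers b ≤ Subgroup.normalizer (Q : Set G) :=
    Subgroup.zpowers_le.2 (S.centralizer_le_normalizer (Subgroup.mem_centralizer_singleton_iff.2 F.bz))
  have hinf : ∀ x, x ∈ Q → x ∈ Subgroup.zpowers b → x = 1 := by
    intro x hxQ hxb
    have h1 : orderOf x ∣ 512 := S.card_Q ▸ by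
      have := orderOf_dvd_natCard (⟨x, hxQ⟩ : ↥Q)
      rwa [Subgroup.orderOf_mk] at this
    have h2 : orderOf x ∣ 5 := by
      have := orderOf_dvd_natCard (⟨x, hxb⟩ : ↥(Subgroup.zpowers b))
      rwa [Subgroup.orderOf_mk, Nat.card_zpowers, F.ord] at this
    exact orderOf_eq_one_iff.1 (Nat.dvd_one.1 (Nat.dvd_gcd h1 h2))
  have hcard : Nat.card ↥H = 2560 := by
    have h := CfsgLib.Fusion.Thompson.card_sup_mul_card_inf hnorm
    have hbot : Q ⊓ Subgroup.zpowers b = ⊥ := eq_bot_iff.2 fun x hx => hinf x hx.1 hx.2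
    rw [hbot, Subgroup.card_bot, mul_one, S.card_Q, Nat.card_zpowers, F.ord] at h
    exact h
  have hb'ord : orderOf b' = 5 := by
    rw [hb', ← MulAut.conj_apply, MulEquiv.orderOf_eq, F.ord]
  have hfac : (Nat.card ↥H).factorization 5 = 1 := by
    rw [hcard, show (2560 : ℕ) = 5 * 512 by norm_num, Nat.factorization_mul (by norm_num) (by norm_num),
      Finsupp.add_apply, Nat.Prime.factorization_self (by norm_num), Nat.factorization_eq_zero_of_not_dvd (by norm_num)]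
  let P₁ : Sylow 5 ↥H := Sylow.ofCard (Subgroup.zpowers (⟨b', hb'H⟩ : ↥H))
    (by rw [Nat.card_zpowers, Subgroup.orderOf_mk, hb'ord, hfac, pow_one])
  let P₂ : Sylow 5 ↥H := Sylow.ofCard (Subgroup.zpowers (⟨b, hbH⟩ : ↥H))
    (by rw [Nat.card_zpowers, Subgroup.orderOf_mk, F.ord, hfac, pow_one])
  obtain ⟨h, hh⟩ := MulAction.exists_smul_eq ↥H P₁ P₂
  have hmem : (h : G) * b' * (h : G)⁻¹ ∈ Subgroup.zpowers b := by
    have h1 : h * (⟨b', hb'H⟩ : ↥H) * h⁻¹ ∈ ((h • P₁ : Sylow 5 ↥H) : Subgroup ↥H) :=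
      ⟨_, Subgroup.mem_zpowers _, rfl⟩
    rw [hh] at h1
    obtain ⟨k, hk⟩ := h1
    exact ⟨k, congrArg Subtype.val hk⟩
  obtain ⟨bi, hbi, qq, hqq, hdec⟩ : ∃ bi ∈ Subgroup.zpowers b, ∃ qq ∈ Q, (h : G) = bi * qq := by
    have h2 : (h : G) ∈ ((Subgroup.zpowers b ⊔ Q : Subgroup G) : Set G) := by rw [sup_comm]; exact h.2
    rw [Subgroup.coe_mul_of_left_le_normalizer_right _ _ hnorm] at h2
    obtain ⟨x, hx, y, hy, e⟩ := h2
    exact ⟨x, hx, y, hy, e.symm⟩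
  have hq : qq * b' * qq⁻¹ ∈ Subgroup.zpowers b := by
    rw [hdec] at hmem
    have := mul_mem (mul_mem (inv_mem hbi) hmem) hbi
    rwa [show bi⁻¹ * (bi * qq * b' * (bi * qq)⁻¹) * bi = qq * b' * qq⁻¹ by group] at this
  have hfin : qq * b' * qq⁻¹ = b := by
    refine (inv_mul_eq_one.1 (hinf _ ?_ (mul_mem (inv_mem (Subgroup.mem_zpowers b)) hq))).symm
    exact F.mem_Q_of_acts_eq F.acts_b (by
      simpa using F.acts_mul (F.acts_mul (F.acts_Q hqq) hab') (F.acts_inv (F.acts_Q hqq)))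
  refine ⟨qq * c, mul_inv_eq_iff_eq_mul.1 ?_, by simpa using F.acts_mul (F.acts_Q hqq) hc⟩
  calc qq * c * b * (qq * c)⁻¹ = qq * b' * qq⁻¹ := by rw [hb']; group
    _ = b := hfin

/-- An element fixing the first subspace and centralising its four basic lifts centralises `C_Q(b)`. -/
theorem cent_R {c : G} (hc : c * z = z * c)
    (hbase : ∀ j : Fin 4, c * S.sec (ι₀ (pt ⟨j.val, by omega⟩)) = S.sec (ι₀ (pt ⟨j.val, by omega⟩)) * c)
    {x : G} (hx : x ∈ Q) (hb : x * b = b * x) : c * x = x * c := by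
  have lifts : ∀ a, (∀ y ∈ Q, π y = ι₀ a → c * y = y * c) ↔ c * S.sec (ι₀ a) = S.sec (ι₀ a) * c := by
    intro a
    refine ⟨fun h => h _ (S.sec_mem _) (S.π_sec _), fun h y hy e => ?_⟩
    rcases S.π_eq (S.sec_mem (ι₀ a)) hy (by rw [S.π_sec, e]) with e' | e' <;> rw [e']
    · exact h
    · exact (Commute.mul_right h hc).eq
  have add : ∀ a a', c * S.sec (ι₀ a) = S.sec (ι₀ a) * c → c * S.sec (ι₀ a') = S.sec (ι₀ a') * c →
      c * S.sec (ι₀ (a + a')) = S.sec (ι₀ (a + a')) * c := by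
    intro a a' h h'
    rcases S.π_eq (mul_mem (S.sec_mem (ι₀ a)) (S.sec_mem (ι₀ a'))) (S.sec_mem (ι₀ (a + a')))
      (by rw [S.π_mul _ (S.sec_mem _) _ (S.sec_mem _), S.π_sec, S.π_sec, S.π_sec, F.D0.add]) with e | e <;> rw [e]
    · exact (Commute.mul_right h h').eq
    · exact (Commute.mul_right (Commute.mul_right h h') hc).eq
  have zero : c * S.sec (ι₀ 0) = S.sec (ι₀ 0) * c := by
    rcases S.π_eq (one_mem Q) (S.sec_mem (ι₀ 0)) (by rw [S.π_one, S.π_sec, F.D0.zero]) with e | e <;> rw [e]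
    · simp
    · rw [one_mul]; exact hc
  have smul : ∀ (t : ZMod 2) (j : Fin 4), c * S.sec (ι₀ (t • pt ⟨j.val, by omega⟩)) =
      S.sec (ι₀ (t • pt ⟨j.val, by omega⟩)) * c := fun t j => by
    rcases two_cases t with rfl | rfl
    · rw [zero_smul]; exact zero
    · rw [one_smul]; exact hbase j
  have hspan : ∀ a : U4, a = a 0 • pt 0 + a 1 • pt 1 + a 2 • pt 2 + a 3 • pt 3 := by decide
  refine (lifts _).2 ?_ x hx (F.R_π hx hb)
  rw [hspan (projU ι₀ (π x))]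
  exact add _ _ (add _ _ (add _ _ (smul _ 0) (smul _ 1)) (smul _ 2)) (smul _ 3)

/-- Lifts centralising `C_Q(b)`. -/
theorem lift_cent {τ : Equiv.Perm (Fin 5)} (hτ : Equiv.Perm.sign τ = 1) :
    ∃ c, (∀ x ∈ Q, x * b = b * x → c * x = x * c) ∧ Acts S ι₀ ι₁ c 1 τ := by
  obtain ⟨c, hc⟩ := F.lift1 hτ
  have hval : ∀ j : Fin 4, ∃ f : ZMod 2, c * S.sec (ι₀ (pt ⟨j.val, by omega⟩)) * c⁻¹ =
      S.sec (ι₀ (pt ⟨j.val, by omega⟩)) * zp z f := fun j => by
    have h := S.act_π hc.cz (S.sec_mem (ι₀ (pt ⟨j.val, by omega⟩)))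
    rw [S.π_sec, hc.on0, pa_one] at h
    rcases S.π_eq (x := S.sec (ι₀ (pt ⟨j.val, by omega⟩))) (S.sec_mem _) (S.norm c hc.cz _ (S.sec_mem _))
      ((S.π_sec _).trans h) with e | e
    · exact ⟨0, by rw [e, zp_zero, mul_one]⟩
    · exact ⟨1, by rw [e, zp_one]⟩
  choose f hf using hval
  set v := S.sec (ι₀ (ofVals f)) with hv
  have hvc : Acts S ι₀ ι₁ (v * c) 1 τ := by simpa using F.acts_mul (F.acts_Q (S.sec_mem _)) hc
  refine ⟨v * c, fun x hx hb => F.cent_R hvc.cz (fun j => mul_inv_eq_iff_eq_mul.1 ?_) hx hb, hvc⟩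
  set x₀ := S.sec (ι₀ (pt ⟨j.val, by omega⟩)) with hx₀
  calc v * c * x₀ * (v * c)⁻¹ = v * (c * x₀ * c⁻¹) * v⁻¹ := by group
    _ = v * x₀ * v⁻¹ * (v * zp z (f j) * v⁻¹) := by rw [hf, conj_mul]
    _ = x₀ * zp z (f j) * zp z (f j) := by
      have hvz : v * zp z (f j) * v⁻¹ = zp z (f j) := by
        rw [S.zp_comm _ (S.mem_cz (S.sec_mem _) : v * z = z * v), mul_inv_cancel_right]
      rw [hvz, S.conj_eq (S.sec_mem _) (S.sec_mem _), S.π_sec, S.π_sec, F.D0.polar, ofVals_spec.2]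
    _ = x₀ := by rw [mul_assoc, ← S.zp_add, CharTwo.add_self_eq_zero, zp_zero, mul_one]

end Fr

end CfsgLib.Characterizations.CoType
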