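import Cfsg.Agent.Lib.Characterizations.CoType.Five.Quot
import Cfsg.Agent.Lib.SmallGroups.SimpleTools

/-!
# The centralizer of the complement of `⟨b⟩` in `C(b)`
-/

set_option autoImplicit false
set_option linter.style.haveILetI false
set_option linter.unusedSectionVars false
set_option maxRecDepth 10000

namespace CfsgLib.Characterizations.CoType

variable {G : Type*} [Group G] [Finite G] {z : G} {Q : Subgroup G} {π : G → V}

set_option maxRecDepth 100000 in
theorem five_transitive : ∀ i j : Fin 5, ∃ σ : Equiv.Perm (Fin 5), Equiv.Perm.sign σ = 1 ∧ σ i = j := by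
  decide +kernel

namespace Five

variable {S : Co z Q π} {b u g h : G} {ι₀ ι₁ : U4 → V} (K : Five S b u g h ι₀ ι₁)
include K

/-- The centralizer of a complement of `⟨b⟩` in `C(b)` of order `604800` is alternating of degree five. -/
theorem cent_compl (hR32 : Nat.card ↥(rOf Q b) = 32) (D : Subgroup G) (hDC : D ≤ centB b)
    (hRD : rOf Q b ≤ D) (hnorm : ∀ c ∈ centB b, ∀ d ∈ D, c * d * c⁻¹ ∈ D)
    (hdec : ∀ c ∈ centB b, ∃ d ∈ D, d⁻¹ * c ∈ Subgroup.zpowers b)
    (hdisj : ∀ x ∈ D, x ∈ Subgroup.zpowers b → x = 1)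
    [hsimple : IsSimpleGroup ↥D] (hDcard : Nat.card ↥D = 604800) :
    Nonempty (↥(Subgroup.centralizer (D : Set G)) ≃* alternatingGroup (Fin 5)) := by
  classical
  have F := K.F
  have hzR := K.z_mem
  have hhC : h ∈ centB b := mem_centB.2 K.hb
  set Lz := D ⊓ Subgroup.centralizer ({z} : Set G) with hLz
  have memL : ∀ x, x ∈ Lz ↔ x ∈ D ∧ x * z = z * x := fun x => by
    rw [hLz, Subgroup.mem_inf, Subgroup.mem_centralizer_singleton_iff]
  have hle : Lz ≤ cb z b := fun x hx => mem_cb.2 ⟨((memL x).1 hx).2, mem_centB.1 (hDC ((memL x).1 hx).1)⟩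
  have hRL : rOf Q b ≤ Lz := fun x hx => (memL x).2 ⟨hRD hx, S.mem_cz (mem_rOf.1 hx).1⟩
  have hker : ∀ k (hk : k ∈ Lz), F.s0 ⟨k, hle hk⟩ = 1 → k ∈ rOf Q b := by
    intro k hk h1
    obtain ⟨n, r, hr, e⟩ := F.s0_ker h1
    have e' : k = b ^ n * r := e
    have : b ^ n = 1 := by
      refine hdisj _ ?_ (pow_mem (Subgroup.mem_zpowers b) n)
      rw [show b ^ n = k * r⁻¹ by rw [e', mul_inv_cancel_right]]
      exact mul_mem ((memL k).1 hk).1 (inv_mem (hRD hr))
    rwa [e', this, one_mul]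
  have hsurj : ∀ σ, ∃ k, ∃ hk : k ∈ Lz, F.s0 ⟨k, hle hk⟩ = σ := by
    intro σ
    obtain ⟨⟨c, hc⟩, hcσ⟩ := F.s0_surjective σ
    obtain ⟨hcz, hcb⟩ := mem_cb.1 hc
    obtain ⟨d, hd, hn⟩ := hdec c (mem_centB.2 hcb)
    have hnz := comm_zb F.bz.symm hn
    have hdz : d * z = z * d := by
      rw [show d = c * (d⁻¹ * c)⁻¹ by group]
      exact (Commute.mul_left (show Commute c z from hcz) (Commute.inv_left (show Commute _ z from hnz.symm))).eq
    have hdL : d ∈ Lz := (memL d).2 ⟨hd, hdz⟩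
    have hncb : d⁻¹ * c ∈ cb z b := mul_mem (inv_mem (hle hdL)) hc
    refine ⟨d, hdL, ?_⟩
    have e : (⟨c, hc⟩ : ↥(cb z b)) = ⟨d, hle hdL⟩ * ⟨_, hncb⟩ := Subtype.ext (mul_inv_cancel_left d c).symm
    rwa [e, map_mul, F.s0_zb (c := ⟨_, hncb⟩) hn, mul_one] at hcσ
  have hcL := F.comm_ca Lz hle hker hsurj
  -- the order of `Lz`
  have hLcard : Nat.card ↥Lz = 1920 := by
    let φ := F.s0.comp (Subgroup.inclusion hle)
    have hk : φ.ker = (rOf Q b).subgroupOf Lz := by
      ext x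
      rw [MonoidHom.mem_ker, Subgroup.mem_subgroupOf]
      exact ⟨fun hx => hker x x.2 hx, fun hx => F.s0_rOf (mem_rOf.1 hx).1⟩
    have hφ : Function.Surjective φ := fun σ => by
      obtain ⟨k, hk, e⟩ := hsurj σ
      exact ⟨⟨k, hk⟩, e⟩
    have h60 : Nat.card ↥(alternatingGroup (Fin 5)) = 60 := by rw [Nat.card_eq_fintype_card]; decide
    have h := φ.ker.card_mul_index
    rw [Subgroup.index_ker, hk, MonoidHom.range_eq_top.2 hφ, Subgroup.card_top, h60,
      Nat.card_congr (Subgroup.subgroupOfEquivOfLe hRL).toEquiv, hR32] at h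
    exact h.symm
  -- conjugates of `u` under `Lz`
  obtain ⟨i, hu⟩ := K.exists_u_pt
  obtain ⟨i', hi'⟩ := pt_pair i
  set y₁ := S.sec (ι₀ (pt i')) with hy₁
  have hy₁R : y₁ ∈ rOf Q b := mem_rOf.2 ⟨S.sec_mem _, F.sec_comm _⟩
  have hy₁u : y₁ * u * y₁⁻¹ = u * z := by
    rw [S.conj_eq K.p.u_mem (S.sec_mem _), S.π_sec, hu, F.D0.polar, hi', zp_one]
  have hconjU : ∀ x ∈ Q, ∀ j, π x = ι₀ (pt j) → ∃ c ∈ Lz, c * u * c⁻¹ = x := by
    intro x hxQ j hx
    obtain ⟨σ, hσ, hij⟩ := five_transitive i j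
    obtain ⟨c, hc, e⟩ := hsurj ⟨σ, hσ⟩
    have hcz := ((memL c).1 hc).2
    obtain ⟨τ, hact, -⟩ := F.s0_spec ⟨c, hle hc⟩
    rw [e] at hact
    have hπ : π (c * u * c⁻¹) = π x := by
      rw [← S.act_π hcz K.p.u_mem, hu, hx, hact.on0, pa_pt]
      show ι₀ (pt (σ i)) = _
      rw [hij]
    rcases S.π_eq (S.norm c hcz u K.p.u_mem) hxQ hπ with e' | e'
    · exact ⟨c, hc, e'.symm⟩
    · refine ⟨c * y₁, mul_mem hc (hRL hy₁R), ?_⟩
      rw [e']
      calc c * y₁ * u * (c * y₁)⁻¹ = c * (y₁ * u * y₁⁻¹) * c⁻¹ := by group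
        _ = c * u * (z * c⁻¹) := by rw [hy₁u]; group
        _ = c * u * (c⁻¹ * z) := by rw [(Commute.inv_left (show Commute c z from hcz)).eq]
        _ = _ := by group
  -- the generated subgroup
  set H := Lz ⊔ Lz.map (MulAut.conj h).toMonoidHom with hH
  have hLH : Lz ≤ H := le_sup_left
  have hL'H : ∀ k ∈ Lz, h * k * h⁻¹ ∈ H := fun k hk => Subgroup.mem_sup_right ⟨k, hk, rfl⟩
  have hhH : h ∈ H := by
    obtain ⟨y, hy, r, hr, e⟩ := K.hsplit
    rw [e]
    exact mul_mem (hLH (hRL hy)) (hL'H r (hRL hr))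
  have hHD : H ≤ D := sup_le inf_le_left (by
    rintro _ ⟨k, hk, rfl⟩
    exact hnorm h hhC k ((memL k).1 hk).1)
  -- an element of the class not commuting with `z`
  have hne : h * z * h⁻¹ ≠ z := fun e => K.p.u_ne_z (K.hconj ▸ e)
  have hwQ : h⁻¹ * z * h ∈ Q := S.symm (by rw [K.hconj]; exact K.p.u_mem) hne
  have hwb : h⁻¹ * z * h * b = b * (h⁻¹ * z * h) :=
    (Commute.mul_left (Commute.mul_left (Commute.inv_left K.hb) F.bz.symm) K.hb).eq
  obtain ⟨j₀, hj₀⟩ : ∃ j, π (h⁻¹ * z * h) = ι₀ (pt j) := by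
    have h1 := F.R_π hwQ hwb
    obtain ⟨j, hj⟩ : ∃ j, projU ι₀ (π (h⁻¹ * z * h)) = pt j := by
      refine (pt_facts.2.2 _ ?_).resolve_left fun e => ?_
      · rw [← F.D0.quad, ← h1]
        exact (S.q_iff _ hwQ).2 (by
          rw [show h⁻¹ * z * h * (h⁻¹ * z * h) = h⁻¹ * (z * z) * h by group, S.extra.z_sq]; group)
      · rw [e, F.D0.zero] at h1
        rcases (S.π_ker _ hwQ).1 h1 with e' | e'
        · exact S.extra.z_ne (by
            calc z = h * (h⁻¹ * z * h) * h⁻¹ := by group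
              _ = 1 := by rw [e']; group)
        · exact hne (by
            calc h * z * h⁻¹ = h * (h⁻¹ * z * h) * h⁻¹ := by rw [e']
              _ = z := by group)
    exact ⟨j, by rw [h1, hj]⟩
  obtain ⟨j₁, hj₁⟩ := pt_pair j₀
  set s := S.sec (ι₀ (pt j₁)) with hs
  obtain ⟨cs, hcs, hcse⟩ := hconjU s (S.sec_mem _) j₁ (S.π_sec _)
  set x := h * s * h⁻¹ with hx
  have hxz : x * z * x⁻¹ = z * u := by
    calc x * z * x⁻¹ = h * (s * (h⁻¹ * z * h) * s⁻¹) * h⁻¹ := by rw [hx]; group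
      _ = h * (h⁻¹ * z * h * z) * h⁻¹ := by
        rw [S.conj_eq hwQ (S.sec_mem _), S.π_sec, hj₀, F.D0.polar, hj₁, zp_one]
      _ = z * u := by rw [← K.hconj]; group
  have hxconj : h * cs * h * z * (h * cs * h)⁻¹ = x := by
    calc h * cs * h * z * (h * cs * h)⁻¹ = h * (cs * (h * z * h⁻¹) * cs⁻¹) * h⁻¹ := by group
      _ = x := by rw [K.hconj, hcse]
  -- thirty-one conjugates of `z`
  let U : Fin 5 × ZMod 2 → G := fun t => S.sec (ι₀ (pt t.1)) * zp z t.2
  have hUQ : ∀ t, U t ∈ Q := fun t => mul_mem (S.sec_mem _) (S.zp_mem _)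
  have hUπ : ∀ t, π (U t) = ι₀ (pt t.1) := fun t => (S.π_mul_zp (S.sec_mem _) _).trans (S.π_sec _)
  have hUinj : Function.Injective U := fun t t' e => by
    have h1 : t.1 = t'.1 := pt_facts.1 _ _ (F.D0.inj (by rw [← hUπ, ← hUπ, e]))
    simp only [U, h1] at e
    exact Prod.ext h1 (S.zp_inj (mul_left_cancel e))
  have hUne : ∀ t, U t ≠ 1 ∧ U t ≠ z := fun t => by
    refine ⟨fun e => ?_, fun e => ?_⟩ <;>
    · have h1 := hUπ t
      rw [e] at h1
      first | rw [S.π_one] at h1 | rw [S.π_z] at h1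
      exact (pt_facts.2.1 t.1).2 (F.D0.inj (by rw [← h1, F.D0.zero]))
  choose cU hcU hcUe using fun t => hconjU (U t) (hUQ t) t.1 (hUπ t)
  let X : (Fin 5 × ZMod 2) × ZMod 2 → G := fun t => zp z t.2 * (cU t.1 * x * (cU t.1)⁻¹) * (zp z t.2)⁻¹
  have hXz : ∀ t, X t * z * (X t)⁻¹ = z * U t.1 := by
    intro t
    have hcz := ((memL _).1 (hcU t.1)).2
    have hzp : zp z t.2 * z = z * zp z t.2 := S.mem_cz (S.zp_mem _)
    have h1 : cU t.1 * x * (cU t.1)⁻¹ * z * (cU t.1 * x * (cU t.1)⁻¹)⁻¹ = z * U t.1 := by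
      calc cU t.1 * x * (cU t.1)⁻¹ * z * (cU t.1 * x * (cU t.1)⁻¹)⁻¹
          = cU t.1 * x * ((cU t.1)⁻¹ * z * cU t.1) * x⁻¹ * (cU t.1)⁻¹ := by group
        _ = cU t.1 * (x * z * x⁻¹) * (cU t.1)⁻¹ := by
          rw [mul_assoc ((cU t.1)⁻¹), ← hcz, inv_mul_cancel_left]; group
        _ = (cU t.1 * z) * u * (cU t.1)⁻¹ := by rw [hxz]; group
        _ = z * U t.1 := by rw [hcz, ← hcUe]; group
    calc X t * z * (X t)⁻¹ = zp z t.2 * (cU t.1 * x * (cU t.1)⁻¹) * ((zp z t.2)⁻¹ * z * zp z t.2) *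
          (cU t.1 * x * (cU t.1)⁻¹)⁻¹ * (zp z t.2)⁻¹ := by simp only [X]; group
      _ = zp z t.2 * (cU t.1 * x * (cU t.1)⁻¹ * z * (cU t.1 * x * (cU t.1)⁻¹)⁻¹) * (zp z t.2)⁻¹ := by
        rw [mul_assoc ((zp z t.2)⁻¹), ← hzp, inv_mul_cancel_left]; group
      _ = z * U t.1 := by
        rw [h1, ← mul_assoc, hzp, mul_assoc z, ← S.zp_comm t.2 (S.mem_cz (hUQ t.1)), ← mul_assoc,
          mul_inv_cancel_right]
  have hXnc : ∀ t, X t * z ≠ z * X t := fun t e => by
    have := hXz t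
    rw [e, mul_inv_cancel_right, left_eq_mul] at this
    exact (hUne t.1).1 this
  let α : Unit ⊕ ((Fin 5 × ZMod 2) ⊕ ((Fin 5 × ZMod 2) × ZMod 2)) → G := fun t => match t with
    | .inl _ => z
    | .inr (.inl t) => U t
    | .inr (.inr t) => X t
  have hαinj : Function.Injective α := by
    rintro (a | a | a) (a' | a' | a') e <;> simp only [α] at e
    · rfl
    · exact absurd e.symm (hUne a').2
    · exact absurd (by rw [← e]) (hXnc a')
    · exact absurd e (hUne a).2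
    · exact congrArg (fun q => Sum.inr (Sum.inl q)) (hUinj e)
    · exact absurd (by rw [← e]; exact S.mem_cz (hUQ a)) (hXnc a')
    · exact absurd (by rw [e]) (hXnc a)
    · exact absurd (by rw [e]; exact S.mem_cz (hUQ a')) (hXnc a)
    · have h1 := hXz a
      rw [e, hXz a'] at h1
      have h2 : a'.1 = a.1 := hUinj (mul_left_cancel h1)
      refine congrArg (fun q => Sum.inr (Sum.inr q)) (Prod.ext h2.symm ?_)
      have hX0 := hXnc (a.1, 0)
      set w := cU a.1 * x * (cU a.1)⁻¹ with hw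
      have e0 : X (a.1, 0) = w := by simp [X, zp_zero, hw]
      rw [e0] at hX0
      simp only [X, h2, ← hw] at e
      rcases two_cases a.2 with p | p <;> rcases two_cases a'.2 with p' | p' <;> rw [p, p'] <;>
        rw [p, p', zp_one, zp_zero] at e <;> exfalso <;> apply hX0
      · rw [one_mul, inv_one, mul_one] at e
        conv_lhs => rw [e]
        group
      · rw [one_mul, inv_one, mul_one] at e
        conv_lhs => rw [← e]
        group
  have hαconj : ∀ t, ∃ c ∈ H, c * z * c⁻¹ = α t := by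
    rintro (a | a | a)
    · exact ⟨1, one_mem _, by simp [α]⟩
    · refine ⟨cU a * h, mul_mem (hLH (hcU a)) hhH, ?_⟩
      calc cU a * h * z * (cU a * h)⁻¹ = cU a * (h * z * h⁻¹) * (cU a)⁻¹ := by group
        _ = U a := by rw [K.hconj, hcUe]
    · refine ⟨zp z a.2 * cU a.1 * (h * cs * h),
        mul_mem (mul_mem ?_ (hLH (hcU a.1))) (mul_mem (mul_mem hhH (hLH hcs)) hhH), ?_⟩
      · rcases two_cases a.2 with p | p <;> rw [p]
        · rw [zp_zero]; exact one_mem _
        · rw [zp_one]; exact hLH (hRL hzR)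
      · calc zp z a.2 * cU a.1 * (h * cs * h) * z * (zp z a.2 * cU a.1 * (h * cs * h))⁻¹
            = zp z a.2 * cU a.1 * (h * cs * h * z * (h * cs * h)⁻¹) * (cU a.1)⁻¹ * (zp z a.2)⁻¹ := by group
          _ = X a := by rw [hxconj]; simp only [X]; group
  choose cα hcα hcαe using hαconj
  have hHbig : 31 * 1920 ≤ Nat.card ↥H := by
    let f : (Unit ⊕ ((Fin 5 × ZMod 2) ⊕ ((Fin 5 × ZMod 2) × ZMod 2))) × ↥Lz → ↥H := fun p =>
      ⟨cα p.1 * p.2, mul_mem (hcα p.1) (hLH p.2.2)⟩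
    have hf : Function.Injective f := by
      rintro ⟨t, l⟩ ⟨t', l'⟩ e
      have e' : cα t * (l : G) = cα t' * l' := congrArg Subtype.val e
      have key : ∀ (t : Unit ⊕ ((Fin 5 × ZMod 2) ⊕ ((Fin 5 × ZMod 2) × ZMod 2))) (l : ↥Lz),
          cα t * (l : G) * z * (cα t * (l : G))⁻¹ = α t := fun t l => by
        rw [mul_assoc (cα t), ((memL _).1 l.2).2, ← hcαe t]; group
      have h1 : t = t' := hαinj (by rw [← key t l, e', key])
      subst h1
      exact Prod.ext rfl (Subtype.ext (mul_left_cancel e'))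
    have h := Nat.card_le_card_of_injective f hf
    rw [Nat.card_prod, hLcard] at h
    have h31 : Nat.card (Unit ⊕ ((Fin 5 × ZMod 2) ⊕ ((Fin 5 × ZMod 2) × ZMod 2))) = 31 := by simp
    rwa [h31] at h
  -- generation
  have hHeq : H = D := by
    refine le_antisymm hHD ?_
    by_contra hnot
    have hH' : H.subgroupOf D ≠ ⊤ := fun e => hnot (Subgroup.subgroupOf_eq_top.1 e)
    have hcm : ¬ IsMulCommutative ↥D :=
      CfsgLib.SmallGroups.SimpleTools.not_comm_of_card (by rw [hDcard]; norm_num)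
    have hdvd := CfsgLib.SmallGroups.SimpleTools.two_mul_card_dvd_factorial hcm _ hH'
    have hmul := (H.subgroupOf D).card_mul_index
    rw [Nat.card_congr (Subgroup.subgroupOfEquivOfLe hHD).toEquiv, hDcard] at hmul
    obtain ⟨m, hm⟩ := Subgroup.card_dvd_of_le hLH
    rw [hLcard] at hm
    rw [hm, mul_assoc] at hmul
    rw [hm] at hHbig
    have hm31 : 31 ≤ m := by omega
    have h315 : m * (H.subgroupOf D).index = 315 := by omega
    have hd10 : (H.subgroupOf D).index ≤ 10 := by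
      by_contra hd
      nlinarith
    have hd9 : (H.subgroupOf D).index ≤ 9 := by
      by_contra hd
      have : (H.subgroupOf D).index = 10 := by omega
      rw [this] at h315
      omega
    have h9 : (H.subgroupOf D).index.factorial ≤ Nat.factorial 9 := Nat.factorial_le hd9
    have := Nat.le_of_dvd (Nat.factorial_pos _) hdvd
    rw [hDcard] at this
    norm_num [Nat.factorial] at h9
    omega
  -- the centralizer
  have hnew : ∀ a ∈ ca Q b, ∀ r ∈ rOf Q b, r * u = u * r → a * (h⁻¹ * r * h) = h⁻¹ * r * h * a := by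
    intro a ha r hr hru
    refine (hcL _ ((memL _).2 ⟨?_, ?_⟩) a ha).symm
    · simpa using hnorm h⁻¹ (inv_mem hhC) r (hRD hr)
    · calc h⁻¹ * r * h * z = h⁻¹ * (r * (h * z * h⁻¹)) * h := by group
        _ = h⁻¹ * ((h * z * h⁻¹) * r) * h := by rw [K.hconj, hru]
        _ = z * (h⁻¹ * r * h) := by group
  obtain ⟨e₅⟩ := K.inter_iso hnew
  have heq : Subgroup.centralizer (D : Set G) = ca Q b ⊓ (ca Q b).map (MulAut.conj h).toMonoidHom := by
    ext y
    rw [Subgroup.mem_centralizer_iff, Subgroup.mem_inf]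
    constructor
    · intro hy
      refine ⟨mem_ca.2 fun r hr => (hy r (hRD hr)).symm, h⁻¹ * y * h, mem_ca.2 fun r hr => ?_,
        show h * (h⁻¹ * y * h) * h⁻¹ = y by group⟩
      have hr' := hy _ (hnorm h hhC r (hRD hr))
      calc h⁻¹ * y * h * r = h⁻¹ * (y * (h * r * h⁻¹)) * h := by group
        _ = h⁻¹ * ((h * r * h⁻¹) * y) * h := by rw [hr']
        _ = r * (h⁻¹ * y * h) := by group
    · rintro ⟨hy, a, ha, hay⟩ d hd
      have hay' : h * a * h⁻¹ = y := hay
      have hsub : H ≤ Subgroup.centralizer ({y} : Set G) := sup_le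
        (fun k hk => Subgroup.mem_centralizer_singleton_iff.2 (hcL k hk y hy)) (by
          rintro _ ⟨k, hk, rfl⟩
          refine Subgroup.mem_centralizer_singleton_iff.2 ?_
          show h * k * h⁻¹ * y = y * (h * k * h⁻¹)
          rw [← hay', conj_mul, conj_mul, hcL k hk a ha])
      exact Subgroup.mem_centralizer_singleton_iff.1 (hsub (hHeq ▸ hd))
  exact ⟨(MulEquiv.subgroupCongr heq).trans e₅⟩

end Five

end CfsgLib.Characterizations.CoType
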