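import Cfsg.Agent.Lib.Characterizations.CoType.Five.Model
import Cfsg.Agent.Lib.Characterizations.CoType.Separate

/-!
# The image of `C(z)` among the isometries of `Q/⟨z⟩`

It has index two in the isometry group and contains no transvection.
-/

set_option autoImplicit false
set_option linter.style.haveILetI false
set_option linter.unusedSectionVars false

namespace CfsgLib.Characterizations.CoType

open CfsgLib.Orth

/-- The isometry group of the space, as permutations. -/
def isoSub : Subgroup (Equiv.Perm V) where
  carrier := {g | Iso g}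
  one_mem' := ⟨fun _ _ => rfl, fun _ => rfl, Function.injective_id⟩
  mul_mem' := fun {a b} ha hb => ha.comp hb
  inv_mem' := fun {a} ha => ⟨fun x y => a.injective (by
      simp only [Equiv.Perm.inv_def]
      rw [ha.add, a.apply_symm_apply, a.apply_symm_apply, a.apply_symm_apply]),
    fun x => by
      show q (a.symm x) = q x
      conv_rhs => rw [← a.apply_symm_apply x, ha.quad],
    (a⁻¹).injective⟩

/-- An isometry as an element of the group. -/
noncomputable def toIso {g : V → V} (hg : Iso g) : ↥isoSub :=
  ⟨Equiv.ofBijective g (Finite.injective_iff_bijective.1 hg.inj), hg⟩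

theorem toIso_apply {g : V → V} (hg : Iso g) (v : V) : (toIso hg : Equiv.Perm V) v = g v := rfl

theorem toIso_ext {g g' : V → V} (hg : Iso g) (hg' : Iso g') (h : ∀ v, g v = g' v) : toIso hg = toIso hg' :=
  Subtype.ext (Equiv.ext h)

theorem card_isoSub_le : Nat.card ↥isoSub ≤ 348364800 := by
  obtain ⟨e, he⟩ := exists_stdEquiv
  let f : ↥isoSub → ↥(orthGroup (plusForm (ZMod 2) 4)) := fun g =>
    ⟨(e.trans (LinearEquiv.ofBijective ((AddMonoidHom.mk' (g : Equiv.Perm V) g.2.add).toZModLinearMap 2)
      (g : Equiv.Perm V).bijective)).trans e.symm, fun v => by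
      rw [← plusForm_apply, ← he, ← plusForm_apply, ← he, LinearEquiv.trans_apply, LinearEquiv.apply_symm_apply]
      exact (g.2.quad (e v)).trans rfl⟩
  have hf : Function.Injective f := fun g g' h => Subtype.ext (Equiv.ext fun x => by
    obtain ⟨v, rfl⟩ := e.surjective x
    exact e.symm.injective (congrArg (fun k : ↥(orthGroup (plusForm (ZMod 2) 4)) => k.1 v) h))
  refine le_trans (Nat.card_le_card_of_injective f hf) (le_of_eq ?_)
  rw [CfsgLib.Classical.card_orth_plus (q := 2) (ZMod.card 2) 3]
  norm_num [Finset.prod_range_succ]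

theorem trans_conj {g : V → V} (hg : Iso g) (r x : V) : g (trans r x) = trans (g r) (g x) := by
  rw [trans, trans, hg.add, hg.map_smul, hg.polar]

theorem trans_sq {r : V} (hr : q r = 1) (x : V) : trans r (trans r x) = x := by
  have h : B (x + B x r • r) r = B x r := by
    rcases two_cases (B x r) with e | e <;> rw [e] <;> simp [B_add_left, B_self, e]
  rw [trans, trans, h, add_assoc, add_self_V, add_zero]

variable {G : Type*} [Group G] [Finite G] {z : G} {Q : Subgroup G} {π : G → V}

namespace Co

variable (S : Co z Q π)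
include S

theorem card_Q : Nat.card ↥Q = 512 := by
  classical
  have h := S.card_pre (fun _ : V => True)
  have h256 : (Finset.univ.filter fun _ : V => True).card = 256 := by
    rw [Finset.filter_true_of_mem (fun _ _ => True.intro), Finset.card_univ, Fintype.card_fun, ZMod.card,
      Fintype.card_fin]
    norm_num
  rw [h256, Nat.card_congr (Equiv.subtypeEquivRight (q := fun x => x ∈ Q) fun x => and_iff_left True.intro)] at h
  exact h

/-- A lift of a vector fixed by an element of order five commutes with it. -/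
theorem comm_of_fixed {b x : G} (hbz : b * z = z * b) (hb5 : b ^ 5 = 1) (hx : x ∈ Q)
    (hfix : S.act b (π x) = π x) : x * b = b * x := by
  rw [S.act_π hbz hx] at hfix
  rcases S.π_eq hx (S.norm b hbz x hx) hfix.symm with e | e
  · exact (mul_inv_eq_iff_eq_mul.1 e).symm
  · exfalso
    have key : ∀ n : ℕ, b ^ n * x * (b ^ n)⁻¹ = x * z ^ n := by
      intro n
      induction n with
      | zero => simp
      | succ n ih =>
        have hzb : Commute b (z ^ n) := Commute.pow_right hbz n
        calc b ^ (n + 1) * x * (b ^ (n + 1))⁻¹ = b * (b ^ n * x * (b ^ n)⁻¹) * b⁻¹ := by rw [pow_succ']; group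
          _ = b * x * b⁻¹ * z ^ n := by
            rw [ih, ← mul_assoc, mul_assoc (b * x), ← (hzb.inv_left).eq, ← mul_assoc]
          _ = x * z ^ (n + 1) := by rw [e, mul_assoc, ← pow_succ']
    have h5 := key 5
    have hz5 : z ^ 5 = z := by
      have h2 : z ^ 2 = 1 := by rw [pow_two]; exact S.extra.z_sq
      rw [show (5 : ℕ) = 2 * 2 + 1 from rfl, pow_succ, pow_mul, h2, one_pow, one_mul]
    rw [hb5, one_mul, inv_one, mul_one, hz5, left_eq_mul] at h5
    exact S.extra.z_ne h5

/-- The action of `C(z)` as isometries. -/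
noncomputable def actHom : ↥(Subgroup.centralizer ({z} : Set G)) →* ↥isoSub :=
  MonoidHom.mk' (fun c => toIso (S.act_iso (Subgroup.mem_centralizer_singleton_iff.1 c.2))) fun c d =>
    Subtype.ext (Equiv.ext fun v =>
      S.act_mul (Subgroup.mem_centralizer_singleton_iff.1 c.2) (Subgroup.mem_centralizer_singleton_iff.1 d.2) v)

theorem actHom_apply {c : ↥(Subgroup.centralizer ({z} : Set G))} (v : V) :
    (S.actHom c : Equiv.Perm V) v = S.act (c : G) v := rfl

theorem actHom_ker : S.actHom.ker = Q.subgroupOf (Subgroup.centralizer ({z} : Set G)) := by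
  ext c
  rw [MonoidHom.mem_ker, Subgroup.mem_subgroupOf]
  refine ⟨fun h => S.mem_of_act_id (Subgroup.mem_centralizer_singleton_iff.1 c.2) fun v => ?_,
    fun h => Subtype.ext (Equiv.ext fun v => S.act_Q h v)⟩
  exact congrArg (fun k : ↥isoSub => (k : Equiv.Perm V) v) h

theorem card_range : Nat.card S.actHom.range = 174182400 := by
  have hle : Q ≤ Subgroup.centralizer ({z} : Set G) := S.extra.le_centralizer
  have h := S.actHom.ker.card_mul_index
  rw [Subgroup.index_ker, S.actHom_ker, Nat.card_congr (Subgroup.subgroupOfEquivOfLe hle).toEquiv, S.card_Q,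
    S.card_cent] at h
  omega

theorem index_range : S.actHom.range.index ≤ 2 ∧ S.actHom.range.index ≠ 0 := by
  have h := S.actHom.range.card_mul_index
  rw [S.card_range] at h
  have := card_isoSub_le
  exact ⟨by omega, Subgroup.index_ne_zero_of_finite⟩

theorem range_normal : S.actHom.range.Normal := by
  obtain ⟨h1, h2⟩ := S.index_range
  rcases (show S.actHom.range.index = 1 ∨ S.actHom.range.index = 2 by omega) with h | h
  · rw [Subgroup.index_eq_one.1 h]; infer_instance
  · exact Subgroup.normal_of_index_eq_two h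

/-- Isometries of odd order come from `C(z)`. -/
theorem exists_of_pow_odd {g : V → V} (hg : Iso g) {n : ℕ} (hn : Odd n) (h : toIso hg ^ n = 1) :
    ∃ c, c * z = z * c ∧ ∀ v, S.act c v = g v := by
  have hmem : toIso hg ∈ S.actHom.range := by
    obtain ⟨h1, h2⟩ := S.index_range
    rcases (show S.actHom.range.index = 1 ∨ S.actHom.range.index = 2 by omega) with hi | hi
    · rw [Subgroup.index_eq_one.1 hi]; exact Subgroup.mem_top _
    · obtain ⟨k, rfl⟩ := hn
      have hsq := Subgroup.sq_mem_of_index_two hi (toIso hg)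
      have : toIso hg * (toIso hg ^ 2) ^ k = 1 := by rw [← pow_mul, ← pow_succ', h]
      rw [eq_inv_of_mul_eq_one_left this]
      exact inv_mem (pow_mem hsq k)
  obtain ⟨c, hc⟩ := hmem
  exact ⟨c, Subgroup.mem_centralizer_singleton_iff.1 c.2, fun v => by rw [← S.actHom_apply, hc, toIso_apply]⟩

/-- No element acts as a transvection. -/
theorem no_trans {c : G} (hc : c * z = z * c) {r : V} (hr : q r = 1) : ¬ ∀ v, S.act c v = trans r v := by
  intro hf
  haveI := S.range_normal
  obtain ⟨u, g, p⟩ := S.exists_pair
  set r0 := P (pr 0 1) with hr0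
  have hq0 : q r0 = 1 := nondeg_V.2
  -- move `r` to `r0` by transvections
  obtain ⟨h, hh, hr'⟩ : ∃ h : V → V, Iso h ∧ h r = r0 := by
    have one : ∀ a b : V, q a = 1 → q b = 1 → B a b = 1 → q (a + b) = 1 ∧ trans (a + b) a = b := by
      intro a b ha hb hab
      refine ⟨by rw [q_add, ha, hb, hab]; decide, ?_⟩
      rw [trans, B_comm a (a + b), B_add_left, B_self, zero_add, B_comm, hab, one_smul, ← add_assoc, add_self_V,
        zero_add]
    rcases to_r0 r hr with e | e | ⟨s, hs, h1, h2⟩
    · exact ⟨id, ⟨fun _ _ => rfl, fun _ => rfl, Function.injective_id⟩, e⟩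
    · obtain ⟨a, b⟩ := one r r0 hr hq0 e
      exact ⟨trans (r + r0), trans_iso a, b⟩
    · obtain ⟨a, b⟩ := one r s hr hs h1
      obtain ⟨a', b'⟩ := one s r0 hs hq0 (by rw [B_comm]; exact h2)
      exact ⟨_, (trans_iso a').comp (trans_iso a), by rw [Function.comp_apply, b, b']⟩
  let c' : ↥(Subgroup.centralizer ({z} : Set G)) := ⟨c, Subgroup.mem_centralizer_singleton_iff.2 hc⟩
  obtain ⟨d, hd⟩ := (inferInstance : S.actHom.range.Normal).conj_mem _ ⟨c', rfl⟩ (toIso hh)
  have hd' : ∀ v, S.act (d : G) v = M (Equiv.swap 0 1) 0 v := fun v => by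
    rw [← S.actHom_apply, hd, ← swap01_form, ← hr0, ← hr']
    obtain ⟨w, rfl⟩ := (Finite.injective_iff_bijective.1 hh.inj).2 v
    rw [← trans_conj hh]
    show h (S.act c (((toIso hh : ↥isoSub) : Equiv.Perm V).symm ((toIso hh : Equiv.Perm V) w))) = _
    rw [Equiv.symm_apply_apply, hf]
  have h1 := p.form_even (Subgroup.mem_centralizer_singleton_iff.1 d.2) ev_zero hd'
  rw [Equiv.Perm.sign_swap (by decide)] at h1
  exact absurd h1 (by decide)

end Co

end CfsgLib.Characterizations.CoType
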