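import Cfsg.Agent.Lib.Characterizations.CoType.Five.Gen
import Cfsg.Agent.Lib.Schur.JTwo.Main
import Cfsg.Agent.Lib.Sporadic.Icosian.Group
import Cfsg.Agent.Lib.Components.Basic

/-!
# The layer of `C(b)`
-/

set_option autoImplicit false
set_option linter.style.haveILetI false
set_option linter.unusedSectionVars false
set_option maxRecDepth 10000

namespace CfsgLib.Characterizations.CoType

open scoped commutatorElement

namespace Five

variable {G : Type*} [Group G] [Finite G] {z : G} {Q : Subgroup G} {π : G → V}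
variable {S : Co z Q π} {b u g h : G} {ι₀ ι₁ : U4 → V} (K : Five S b u g h ι₀ ι₁)
include K

/-- The layer of `C(b)` is the Hall–Janko group and its centralizer is alternating of degree five. -/
theorem layer_cent (hR : Cfsg.IsExtraspecial 2 ↥(rOf Q b)) (hR32 : Nat.card ↥(rOf Q b) = 32) :
    Cfsg.Spor.IsoJ2 ↥(Cfsg.layer ↥(centB b)) ∧
      Nonempty (↥(Subgroup.centralizer (((Cfsg.layer ↥(centB b)).map (centB b).subtype) : Set G)) ≃*
        alternatingGroup (Fin 5)) := by
  classical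
  have F := K.F
  obtain ⟨e₀⟩ := K.isoJ2_quot hR hR32
  haveI : IsSimpleGroup Cfsg.Spor.J2 := by
    open CfsgLib.Sporadic.Icosian in
    haveI := J_simple
    exact equivJ.isSimpleGroup
  have hJcard : Nat.card Cfsg.Spor.J2 = 604800 := by
    open CfsgLib.Sporadic.Icosian in exact (Nat.card_congr equivJ.toEquiv).trans card_J
  set C := centB b with hC
  set N := Subgroup.zpowers (bc b) with hN
  let p : ↥C →* ↥C ⧸ N := QuotientGroup.mk' N
  have hp : Function.Surjective p := QuotientGroup.mk'_surjective N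
  haveI : IsSimpleGroup (↥C ⧸ N) := e₀.isSimpleGroup
  have hMcard : Nat.card (↥C ⧸ N) = 604800 := (Nat.card_congr e₀.toEquiv).trans hJcard
  have hMnc : ¬ IsMulCommutative (↥C ⧸ N) :=
    CfsgLib.SmallGroups.SimpleTools.not_comm_of_card (by rw [hMcard]; norm_num)
  have hMperf : commutator (↥C ⧸ N) = ⊤ :=
    (inferInstance : (commutator (↥C ⧸ N)).Normal).eq_bot_or_eq_top.resolve_left fun e => hMnc ⟨⟨fun x y => by
      have := Subgroup.commutator_mem_commutator (Subgroup.mem_top x) (Subgroup.mem_top y)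
      rw [← commutator_def, e, Subgroup.mem_bot, commutatorElement_eq_one_iff_mul_comm] at this
      exact this⟩⟩
  set D := commutator ↥C with hD
  have hDmap : D.map p = ⊤ := by
    rw [hD, commutator_def, Subgroup.map_commutator, Subgroup.map_top_of_surjective _ hp, ← commutator_def, hMperf]
  have hdec : ∀ x : ↥C, ∃ d ∈ D, d⁻¹ * x ∈ N := fun x => by
    obtain ⟨d, hd, e⟩ := (hDmap ▸ Subgroup.mem_top (p x) : p x ∈ D.map p)
    exact ⟨d, hd, QuotientGroup.eq.1 e⟩
  have hbc : orderOf (bc b) = 5 := by rw [← Subgroup.orderOf_coe]; exact F.ord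
  have hNcard : Nat.card ↥N = 5 := by rw [hN, Nat.card_zpowers, hbc]
  have hNcent : ∀ n ∈ N, ∀ x : ↥C, x * n = n * x := fun n hn x =>
    Subtype.ext (comm_zb (mem_centB.1 x.2) (mem_zb.1 hn))
  -- `D` meets `⟨b⟩` trivially
  have hdisj : D ⊓ N = ⊥ := by
    haveI : Fact (Nat.Prime 5) := ⟨by norm_num⟩
    rcases (Nat.dvd_prime (by norm_num : Nat.Prime 5)).1
      (hNcard ▸ Subgroup.card_dvd_of_le (inf_le_right : D ⊓ N ≤ N)) with e | e
    · exact Subgroup.card_eq_one.1 e
    exfalso
    have hND : N ≤ D := inf_eq_right.1 (Subgroup.eq_of_le_of_card_ge inf_le_right (by rw [hNcard, e]))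
    have hDtop : D = ⊤ := eq_top_iff.2 fun x _ => by
      obtain ⟨d, hd, hn⟩ := hdec x
      simpa using mul_mem hd (hND hn)
    let φ : Shrink.{0} ↥C ≃* ↥C := Shrink.mulEquiv
    let σ : Shrink.{0} ↥C →* Cfsg.Spor.J2 := (e₀.toMonoidHom.comp p).comp φ.toMonoidHom
    have hker : ∀ y, y ∈ σ.ker ↔ φ y ∈ N := fun y => by
      rw [MonoidHom.mem_ker]
      exact ((map_eq_one_iff _ e₀.injective).trans (QuotientGroup.eq_one_iff (φ y)))
    have hst : Cfsg.IsStemExtension σ := by
      refine ⟨(e₀.surjective.comp hp).comp φ.surjective, fun y hy => ?_, fun y _ => ?_⟩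
      · refine Subgroup.mem_center_iff.2 fun w => φ.injective ?_
        rw [map_mul, map_mul]
        exact hNcent _ ((hker y).1 hy) (φ w)
      · have htop : (commutator (Shrink.{0} ↥C)).map φ.toMonoidHom = D := by
          rw [hD, commutator_def, commutator_def, Subgroup.map_commutator,
            Subgroup.map_top_of_surjective _ φ.surjective]
        have h1 : φ y ∈ (commutator (Shrink.{0} ↥C)).map φ.toMonoidHom := by rw [htop, hDtop]; trivial
        obtain ⟨y', hy', e'⟩ := h1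
        rwa [← φ.injective e']
    obtain ⟨π', hπ'⟩ := CfsgLib.Schur.Sporadic.JTwo.hasMultiplier.2 (Shrink.{0} ↥C) σ hst
    have h2 : Nat.card ↥σ.ker ≤ 2 := by
      refine (Nat.card_le_card_of_surjective π' hπ').trans ?_
      simp
    have h5 : 5 ≤ Nat.card ↥σ.ker := hNcard ▸ Nat.card_le_card_of_injective
      (fun n : ↥N => (⟨φ.symm n, (hker _).2 (by rw [φ.apply_symm_apply]; exact n.2)⟩ : ↥σ.ker))
      (fun n n' e' => Subtype.ext (φ.symm.injective (congrArg Subtype.val e')))
    omega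
  -- `D` is the Hall–Janko group
  have hψ : Function.Bijective (p.comp D.subtype) := by
    refine ⟨(injective_iff_map_eq_one _).2 fun x hx => ?_, fun m => ?_⟩
    · have : (x : ↥C) ∈ D ⊓ N := ⟨x.2, (QuotientGroup.eq_one_iff _).1 hx⟩
      rw [hdisj, Subgroup.mem_bot] at this
      exact Subtype.ext this
    · obtain ⟨x, rfl⟩ := hp m
      obtain ⟨d, hd, hn⟩ := hdec x
      exact ⟨⟨d, hd⟩, QuotientGroup.eq.2 hn⟩
  let eD : ↥D ≃* Cfsg.Spor.J2 := (MulEquiv.ofBijective _ hψ).trans e₀
  haveI : IsSimpleGroup ↥D := eD.isSimpleGroup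
  have hDcard : Nat.card ↥D = 604800 := (Nat.card_congr eD.toEquiv).trans hJcard
  have hDnc : ¬ IsMulCommutative ↥D :=
    CfsgLib.SmallGroups.SimpleTools.not_comm_of_card (by rw [hDcard]; norm_num)
  have hcomp : Cfsg.IsComponent D := by
    refine ⟨Subgroup.Normal.isSubnormal inferInstance, ?_, ?_⟩
    · refine ⟨(inferInstance : (commutator ↥D).Normal).eq_bot_or_eq_top.resolve_left fun e => hDnc ⟨⟨fun x y => ?_⟩⟩⟩
      have := Subgroup.commutator_mem_commutator (Subgroup.mem_top x) (Subgroup.mem_top y)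
      rw [← commutator_def, e, Subgroup.mem_bot, commutatorElement_eq_one_iff_mul_comm] at this
      exact this
    · exact ((QuotientGroup.quotientMulEquivOfEq (CfsgLib.SmallGroups.SimpleTools.center_eq_bot hDnc)).trans
        QuotientGroup.quotientBot).isSimpleGroup
  have hlayer : Cfsg.layer ↥C = D := by
    refine le_antisymm (CfsgLib.Components.layer_le_iff.2 fun L hL => ?_) (CfsgLib.Components.IsComponent.le_layer hcomp)
    rw [← Subgroup.isPerfect_iff.mp hL.2.1]
    exact Subgroup.commutator_mono le_top le_top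
  refine ⟨⟨(MulEquiv.subgroupCongr hlayer).trans eD⟩, ?_⟩
  rw [hlayer]
  set D' := D.map C.subtype with hD'
  let eD' : ↥D ≃* ↥D' := D.equivMapOfInjective _ C.subtype_injective
  haveI : IsSimpleGroup ↥D' := eD'.symm.isSimpleGroup
  have hmem : ∀ c : ↥C, c ^ 5 ∈ D := fun c => by
    obtain ⟨d, hd, hn⟩ := hdec c
    have hn5 : (d⁻¹ * c) ^ 5 = 1 := by
      have := pow_card_eq_one' (x := (⟨_, hn⟩ : ↥N))
      rw [hNcard] at this
      exact congrArg Subtype.val this
    rw [← mul_inv_cancel_left d c, (show Commute d (d⁻¹ * c) from hNcent _ hn d).mul_pow, hn5, mul_one]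
    exact pow_mem hd 5
  refine K.cent_compl hR32 D' (Subgroup.map_subtype_le D) (fun r hr => ?_) ?_ (fun c hc => ?_) ?_
    ((Nat.card_congr eD'.toEquiv).symm.trans hDcard)
  · exact ⟨⟨r, mem_centB.2 (mem_rOf.1 hr).2⟩ ^ 5, hmem _, F.pow_five_Q (mem_rOf.1 hr).1⟩
  · rintro c hc _ ⟨d, hd, rfl⟩
    exact ⟨⟨c, hc⟩ * d * ⟨c, hc⟩⁻¹, (inferInstance : D.Normal).conj_mem d hd _, rfl⟩
  · obtain ⟨d, hd, hn⟩ := hdec ⟨c, hc⟩
    exact ⟨d, ⟨d, hd, rfl⟩, mem_zb.1 hn⟩
  · rintro _ ⟨d, hd, rfl⟩ hdb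
    have : d ∈ D ⊓ N := ⟨hd, mem_zb.2 hdb⟩
    rw [hdisj, Subgroup.mem_bot] at this
    rw [this, map_one]

end Five

end CfsgLib.Characterizations.CoType
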