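import Cfsg.Agent.Lib.Characterizations.CoType.Five.Build

/-!
# The centralizers of `b` and of `C_Q(b)` inside `C(z)`, and a second class of involutions
-/

set_option autoImplicit false
set_option linter.style.haveILetI false
set_option linter.unusedSectionVars false
set_option maxRecDepth 10000

namespace CfsgLib.Characterizations.CoType

variable {G : Type*} [Group G] [Finite G] {z : G} {Q : Subgroup G} {π : G → V}

/-- `C_Q(b)`. -/
def rOf (Q : Subgroup G) (b : G) : Subgroup G := Q ⊓ Subgroup.centralizer ({b} : Set G)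

theorem mem_rOf {b x : G} : x ∈ rOf Q b ↔ x ∈ Q ∧ x * b = b * x := by
  rw [rOf, Subgroup.mem_inf, Subgroup.mem_centralizer_singleton_iff]

/-- The configuration: the decomposition, a pair at a point of the fixed space and an element of `C(b)`
moving `z` to that point. -/
structure Five (S : Co z Q π) (b u g h : G) (ι₀ ι₁ : U4 → V) : Prop where
  F : Fr S b ι₀ ι₁
  p : S.Pair u g
  ub : u * b = b * u
  hb : h * b = b * h
  hconj : h * z * h⁻¹ = u
  hsplit : ∃ y ∈ rOf Q b, ∃ r ∈ rOf Q b, h = y * (h * r * h⁻¹)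

namespace Co

variable (S : Co z Q π)
include S

/-- Conjugates of `Q` depend only on the conjugate of `z`. -/
theorem conj_Q_eq {g h x : G} (hgh : g * z * g⁻¹ = h * z * h⁻¹) :
    g⁻¹ * x * g ∈ Q ↔ h⁻¹ * x * h ∈ Q := by
  have key : ∀ g h : G, g * z * g⁻¹ = h * z * h⁻¹ → g⁻¹ * x * g ∈ Q → h⁻¹ * x * h ∈ Q := by
    intro g h e hx
    have hc : h⁻¹ * g * z = z * (h⁻¹ * g) := by
      calc h⁻¹ * g * z = h⁻¹ * (g * z * g⁻¹) * g := by group
        _ = z * (h⁻¹ * g) := by rw [e]; group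
    have := S.norm _ hc _ hx
    rwa [show h⁻¹ * g * (g⁻¹ * x * g) * (h⁻¹ * g)⁻¹ = h⁻¹ * x * h by group] at this
  exact ⟨key g h hgh, key h g hgh.symm⟩

/-- From the decomposition and a pair at a point commuting with `b`. -/
theorem exists_five {b u g : G} {ι₀ ι₁ : U4 → V} (F : Fr S b ι₀ ι₁) (p : S.Pair u g) (ub : u * b = b * u) :
    ∃ h, Five S b u g h ι₀ ι₁ := by
  have hbz := F.bz
  have hb5 : b ^ 5 = 1 := F.ord ▸ pow_orderOf_eq_one b
  set b' := g⁻¹ * b * g with hb'
  have hcom : ∀ x : G, x * b = b * x → g⁻¹ * x * g * b' = b' * (g⁻¹ * x * g) := fun x hx => by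
    calc g⁻¹ * x * g * b' = g⁻¹ * (x * b) * g := by rw [hb']; group
      _ = b' * (g⁻¹ * x * g) := by rw [hx, hb']; group
  have hz' : g⁻¹ * u * g = z := by rw [← p.conj]; group
  have hb'z : b' * z = z * b' := by rw [← hz']; exact (hcom u ub).symm
  have hb'5 : b' ^ 5 = 1 := by
    rw [hb', show g⁻¹ * b * g = MulAut.conj g⁻¹ b by simp, ← map_pow, hb5, map_one]
  have hw := p.w_mem
  have hI := S.act_iso hb'z
  have hfw : S.act b' (π (g⁻¹ * z * g)) = π (g⁻¹ * z * g) := by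
    rw [S.act_π hb'z hw]
    congr 1
    rw [mul_inv_eq_iff_eq_mul]
    exact (hcom z hbz.symm).symm
  -- a fixed vector not orthogonal to the second point
  obtain ⟨x, hx, hxw⟩ : ∃ x, S.act b' x = x ∧ B u0 x = 1 := by
    rw [p.π_w] at hfw
    set f := S.act b'
    have hb2 : b' * b' * z = z * (b' * b') := cz_mul hb'z hb'z
    have hb4 : b' * b' * (b' * b') * z = z * (b' * b' * (b' * b')) := cz_mul hb2 hb2
    have hf5 : ∀ x, f (f (f (f (f x)))) = x := fun x => by
      calc f (f (f (f (f x)))) = S.act (b' * b' * (b' * b')) (f x) := by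
            rw [S.act_mul hb2 hb2, S.act_mul hb'z hb'z, S.act_mul hb'z hb'z]
        _ = S.act (b' * b' * (b' * b') * b') x := (S.act_mul hb4 hb'z x).symm
        _ = x := by
          rw [show b' * b' * (b' * b') * b' = b' ^ 5 by simp only [pow_succ, pow_zero, one_mul, mul_assoc],
            hb'5, S.act_one]
    have hB : ∀ v, B u0 (f v) = B u0 v := fun v => by
      conv_lhs => rw [← hfw]
      exact hI.polar _ _
    refine ⟨y0 + f y0 + f (f y0) + f (f (f y0)) + f (f (f (f y0))), by simp only [hI.add, hf5]; abel, ?_⟩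
    have hadd : ∀ a c, B u0 (a + c) = B u0 a + B u0 c := fun a c => by
      rw [B_comm u0, B_add_left, B_comm a, B_comm c]
    simp only [hadd, hB]
    rw [B_comm, B_y0_u0]
    decide
  obtain ⟨r', hr', rfl⟩ := S.π_surj x
  have hr'b : r' * b' = b' * r' := S.comm_of_fixed hb'z hb'5 hr' hx
  set y := g * r' * g⁻¹ with hy
  have hyb : y * b = b * y := by
    calc y * b = g * (r' * b') * g⁻¹ := by rw [hy, hb']; group
      _ = b * y := by rw [hr'b, hy, hb']; group
  have hyz : y * z * y⁻¹ = z * u := by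
    have h1 := S.conj_eq hw hr'
    rw [p.π_w, B_comm, hxw, zp_one] at h1
    calc y * z * y⁻¹ = g * (r' * (g⁻¹ * z * g) * r'⁻¹) * g⁻¹ := by rw [hy]; group
      _ = z * u := by rw [h1, ← p.conj]; group
  have hu := F.R_π p.u_mem ub
  rw [p.π_u] at hu
  obtain ⟨i, hi⟩ : ∃ i, projU ι₀ u0 = pt i := (pt_facts.2.2 _ (by rw [← F.D0.quad, ← hu]; decide)).resolve_left
    fun e => by rw [e, F.D0.zero] at hu; revert hu; decide
  rw [hi] at hu
  obtain ⟨j, hj⟩ := pt_pair i
  set y₂ := S.sec (ι₀ (pt j)) with hy₂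
  have hy₂b := F.sec_comm (pt j)
  have hy₂u : y₂ * u * y₂⁻¹ = u * z := by
    rw [S.conj_eq p.u_mem (S.sec_mem _), S.π_sec, p.π_u, hu, F.D0.polar, hj, zp_one]
  have hy₂z : y₂ * z * y₂⁻¹ = z := by rw [S.mem_cz (S.sec_mem _), mul_inv_cancel_right]
  set h := y₂ * y with hh
  have hhb : h * b = b * h := (Commute.mul_left (show Commute y₂ b from hy₂b) hyb).eq
  have hconj : h * z * h⁻¹ = u := by
    calc h * z * h⁻¹ = y₂ * (y * z * y⁻¹) * y₂⁻¹ := by rw [hh]; group
      _ = y₂ * z * y₂⁻¹ * (y₂ * u * y₂⁻¹) := by rw [hyz]; group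
      _ = u := by
        rw [hy₂z, hy₂u, ← mul_assoc, ← S.mem_cz p.u_mem, mul_assoc, S.extra.z_sq, mul_one]
  refine ⟨h, F, p, ub, hhb, hconj, y₂, mem_rOf.2 ⟨S.sec_mem _, hy₂b⟩, h⁻¹ * y * h, mem_rOf.2 ⟨?_, ?_⟩, by
    rw [show h * (h⁻¹ * y * h) * h⁻¹ = y by group]⟩
  · refine (S.conj_Q_eq (g := g) (h := h) (p.conj.trans hconj.symm)).1 ?_
    rw [hy, show g⁻¹ * (g * r' * g⁻¹) * g = r' by group]
    exact hr'
  · exact (Commute.mul_left (Commute.mul_left (Commute.inv_left hhb) hyb) hhb).eq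

end Co

namespace Five

variable {S : Co z Q π} {b u g h : G} {ι₀ ι₁ : U4 → V} (K : Five S b u g h ι₀ ι₁)
include K

theorem z_mem : z ∈ rOf Q b := mem_rOf.2 ⟨S.extra.z_mem, K.F.bz.symm⟩

theorem u_mem : u ∈ rOf Q b := mem_rOf.2 ⟨K.p.u_mem, K.ub⟩

theorem exists_u_pt : ∃ i, π u = ι₀ (pt i) := by
  have hu := K.F.R_π K.p.u_mem K.ub
  obtain ⟨i, hi⟩ : ∃ i, projU ι₀ (π u) = pt i := by
    refine (pt_facts.2.2 _ ?_).resolve_left fun e => ?_
    · rw [← K.F.D0.quad, ← hu, K.p.π_u]; decide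
    · rw [e, K.F.D0.zero, K.p.π_u] at hu; revert hu; decide
  exact ⟨i, by rw [hu, hi]⟩

/-- An involution of `C(b)` commuting with `z` and not conjugate to it. -/
theorem exists_second : ∃ t : G, orderOf t = 2 ∧ t * z = z * t ∧ t * b = b * t ∧ ¬ IsConj z t := by
  have F := K.F
  have p := K.p
  obtain ⟨i, hu⟩ := K.exists_u_pt
  -- `w' = h⁻¹ z h` is a singular point of the fixed space
  have hne : h * z * h⁻¹ ≠ z := fun e => p.u_ne_z (K.hconj ▸ e)
  have hwQ : h⁻¹ * z * h ∈ Q := S.symm (by rw [K.hconj]; exact p.u_mem) hne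
  have hwb : h⁻¹ * z * h * b = b * (h⁻¹ * z * h) :=
    (Commute.mul_left (Commute.mul_left (Commute.inv_left K.hb) F.bz.symm) K.hb).eq
  obtain ⟨j, hj⟩ : ∃ j, π (h⁻¹ * z * h) = ι₀ (pt j) := by
    have h1 := F.R_π hwQ hwb
    obtain ⟨j, hj⟩ : ∃ j, projU ι₀ (π (h⁻¹ * z * h)) = pt j := by
      refine (pt_facts.2.2 _ ?_).resolve_left fun e => ?_
      · rw [← F.D0.quad, ← h1]
        exact (S.q_iff _ hwQ).2 (by
          rw [show h⁻¹ * z * h * (h⁻¹ * z * h) = h⁻¹ * (z * z) * h by group, S.extra.z_sq]; group)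
      · rw [e, F.D0.zero] at h1
        rcases (S.π_ker _ hwQ).1 h1 with e' | e'
        · exact S.extra.z_ne (by
            calc z = h * (h⁻¹ * z * h) * h⁻¹ := by group
              _ = 1 := by rw [e']; group)
        · exact hne (by
            calc h * z * h⁻¹ = h * (h⁻¹ * z * h) * h⁻¹ := by rw [e']
              _ = z := by group)
    exact ⟨j, by rw [h1, hj]⟩
  obtain ⟨a, ha, ha0, haj⟩ := pt_perp_exists j
  set r := S.sec (ι₀ a) with hr
  have hrQ : r ∈ Q := S.sec_mem _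
  have hrb := F.sec_comm a
  have hrw : r * (h⁻¹ * z * h) = h⁻¹ * z * h * r :=
    (S.comm_iff hrQ hwQ).2 (by rw [S.π_sec, hj, F.D0.polar, ha])
  set e := h * r * h⁻¹ with he
  have hez : e * z = z * e := by
    calc e * z = h * (r * (h⁻¹ * z * h)) * h⁻¹ := by rw [he]; group
      _ = z * e := by rw [hrw, he]; group
  have heb : e * b = b * e := (Commute.mul_left (Commute.mul_left K.hb hrb) (Commute.inv_left K.hb)).eq
  have hee : e * e = u := by
    rw [he, conj_mul, S.sq_eq hrQ, S.π_sec, F.D0.quad, pt_perp_aniso j a ha ha0 haj, zp_one, K.hconj]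
  have hsie : e ∈ S.sie g := Co.mem_sie.2 ⟨hez, (S.conj_Q_eq (g := h) (h := g) (K.hconj.trans p.conj.symm)).1 (by
    rw [he, show h⁻¹ * (h * r * h⁻¹) * h = r by group]; exact hrQ)⟩
  have heQ : e ∉ Q := fun hm => by
    have huu := p.uu
    rcases p.meet_cases hm (Co.mem_sie.1 hsie).2 with e' | e' | e' | e' <;> rw [e'] at hee
    · rw [one_mul] at hee; exact p.u_ne hee.symm
    · rw [S.extra.z_sq] at hee; exact p.u_ne hee.symm
    · rw [huu] at hee; exact p.u_ne hee.symm
    · rw [Commute.mul_mul_mul_comm (show Commute z u from p.uz.symm), huu, S.extra.z_sq, one_mul] at hee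
      exact p.u_ne hee.symm
  obtain ⟨φ, hφ, hf⟩ := p.sie_form hsie
  have hφ0 : φ ≠ 0 := fun e' => heQ (p.sie_mem_Q hsie fun v => by rw [hf, e'])
  have hqφ : qe φ = 1 := by
    refine (two_cases _).resolve_left fun e' => ?_
    rw [p.sie_sq hsie hφ hf, e'] at hee
    exact p.u_ne (hee.symm.trans (if_pos rfl))
  -- `e` acts trivially on the second subspace
  obtain ⟨σ, τ, hact, ⟨k, hτ⟩, -⟩ := F.acts_of_comm hez heb
  have hτ1 : τ = 1 := by
    have h4 : Acts S ι₀ ι₁ (e * e) (σ * σ) (τ * τ) := F.acts_mul hact hact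
    have h1 : Acts S ι₀ ι₁ (e * e) 1 1 := F.acts_Q (hee.symm ▸ p.u_mem)
    have h2 := (F.acts_unique h4 h1).2
    have h5 : τ ^ 5 = 1 := by rw [hτ, ← pow_mul, mul_comm, pow_mul, cyc_apply.2.1, one_pow]
    calc τ = (τ * τ) * (τ * τ) * τ := by rw [h2]; simp
      _ = τ ^ 5 := by simp only [pow_succ, pow_zero, one_mul, mul_assoc]
      _ = 1 := h5
  obtain ⟨a', ha'i, hdot⟩ : ∃ a', Bm a' (pt i) = 0 ∧ dot (co (ι₀ a')) φ = 1 := by
    by_contra hne'
    push Not at hne'
    have hfix : ∀ v : V, v 7 = 0 → M 1 φ v = v := by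
      intro v hv
      have hBv : Bm (projU ι₀ v) (pt i) = 0 := by rw [← F.D0.polar_proj, ← hu, p.π_u, B_u0, hv]
      have h7 : ∀ a, Bm a (pt i) = 0 → ι₀ a 7 = 0 := fun a ha => by
        rw [← B_u0 (ι₀ a), ← p.π_u, hu, F.D0.polar, ha]
      rw [← hf]
      conv_lhs => rw [F.decomp v]
      rw [(S.act_iso hez).add]
      have e1 : S.act e (ι₀ (projU ι₀ v)) = ι₀ (projU ι₀ v) := by
        have hd := (two_cases (dot (co (ι₀ (projU ι₀ v))) φ)).resolve_right (hne' _ hBv)
        have := M_one_perp φ (h7 _ hBv)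
        rw [hd, zero_smul] at this
        rw [hf]
        calc M 1 φ (ι₀ (projU ι₀ v)) = M 1 φ (ι₀ (projU ι₀ v)) + ι₀ (projU ι₀ v) + ι₀ (projU ι₀ v) := by
              rw [add_assoc, add_self_V, add_zero]
          _ = ι₀ (projU ι₀ v) := by rw [this, zero_add]
      rw [e1, hact.on1, hτ1, pa_one, ← F.decomp]
    apply hφ0
    refine dot_nondeg hφ ev_zero fun w hw => ?_
    obtain ⟨c1, -, c3⟩ := co_P w hw
    have := M_one_perp φ c3
    rw [hfix _ c3, add_self_V, c1] at this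
    rcases two_cases (dot w φ) with e' | e'
    · rw [e']; simp [dot]
    · rw [e', one_smul] at this
      exact absurd this.symm (by decide)
  set x := S.sec (ι₀ a') with hx
  have hxQ : x ∈ Q := S.sec_mem _
  have hx7 : π x 7 = 0 := by rw [← B_u0 (π x), ← p.π_u, hu, S.π_sec, F.D0.polar, ha'i]
  have hqm : qe (co (π x)) = 1 := by
    rw [← (perp_facts _ hx7).1, S.π_sec, F.D0.quad]
    refine pt_perp_aniso i a' ha'i (fun e' => ?_) (fun e' => ?_)
    · rw [e', F.D0.zero, co_zero] at hdot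
      simp [dot] at hdot
    · rw [e', ← hu, p.π_u, co_u0] at hdot
      simp [dot] at hdot
  have hdotx : dot (co (π x)) φ = 1 := by rw [S.π_sec, hdot]
  have D : Co.Std p φ (co (π x)) e x :=
    ⟨hφ, ev_co _, hφ0, by rw [hdotx, hqφ], by rw [hqm, hqφ], fun a b => by
      have hlin : ∀ y, dot (a • co (π x) + b • φ) y = a * dot (co (π x)) y + b * dot φ y := fun y => by
        simp [dot]; ring
      refine ⟨a • co (π x) + b • φ, ?_, ?_, ?_⟩
      · rcases two_cases a with rfl | rfl <;> rcases two_cases b with rfl | rfl <;>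
          simp [ev_zero, ev_co, hφ, ev_add]
      · rw [hlin, hdotx, (qe_facts φ hφ).1]; simp
      · rw [hlin, dot_comm φ, hdotx, (qe_facts _ (ev_co (π x))).1]; simp,
      hsie, hf, hxQ, hx7, rfl⟩
  obtain ⟨eC, xC, DC⟩ := p.exists_std std_C.1 std_C.2.1 std_C.2.2.1 (by rw [std_C.2.2.2.2.2.1, std_C.2.2.2.1])
    (by rw [std_C.2.2.2.2.1, std_C.2.2.2.1]) dual_C
  have hC : ¬ IsConj z (eC * xC) := DC.not_conj_z pR_count.2 smallC (by have := small_card.2; omega)
    fun σ ψ hψ hs h4 h => by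
      obtain ⟨h1, h2⟩ := fixed_small_C hψ hs h4 h
      simp only [smallC, Finset.mem_product, Finset.mem_insert, Finset.mem_singleton]
      exact ⟨h1, h2⟩
  refine ⟨e * x, D.orderOf_t, D.t_cz, (Commute.mul_left (show Commute e b from heb) (F.sec_comm a')).eq,
    fun hcj => hC (hcj.trans (p.siegel_nonsingular DC D.t_cz D.t_sq hφ hqφ D.t_act).isConj)⟩

end Five

end CfsgLib.Characterizations.CoType
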