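import Cfsg.Agent.Lib.Characterizations.CoType.Five.Layer
import Cfsg.Agent.Lib.Solvable.Cores

/-!
# An element of order five with minus fixed space in a group of Conway type
-/

set_option autoImplicit false
set_option linter.style.haveILetI false
set_option linter.unusedSectionVars false
set_option maxRecDepth 10000

namespace CfsgLib.Characterizations.CoType

variable {G : Type*} [Group G] [Finite G]

/-- The layer of a conjugate subgroup is the conjugate of the layer. -/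
theorem layer_conj (φ : G ≃* G) {C₁ C₂ : Subgroup G} (hC : C₁.map φ.toMonoidHom = C₂) :
    Nonempty (↥(Cfsg.layer ↥C₁) ≃* ↥(Cfsg.layer ↥C₂)) ∧
      ((Cfsg.layer ↥C₁).map C₁.subtype).map φ.toMonoidHom = (Cfsg.layer ↥C₂).map C₂.subtype := by
  subst hC
  let e : ↥C₁ ≃* ↥(C₁.map φ.toMonoidHom) := C₁.equivMapOfInjective _ φ.injective
  have he := CfsgLib.Components.layer_map_mulEquiv e
  refine ⟨⟨((Cfsg.layer ↥C₁).equivMapOfInjective _ e.injective).trans (MulEquiv.subgroupCongr he)⟩, ?_⟩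
  rw [← he, Subgroup.map_map, Subgroup.map_map]
  rfl

/-- The centralizer of a conjugate is the conjugate of the centralizer. -/
theorem centralizer_map (φ : G ≃* G) (A : Subgroup G) :
    (Subgroup.centralizer (A : Set G)).map φ.toMonoidHom =
      Subgroup.centralizer ((A.map φ.toMonoidHom : Subgroup G) : Set G) := by
  ext y
  obtain ⟨x, rfl⟩ := φ.surjective y
  rw [show φ x ∈ (Subgroup.centralizer (A : Set G)).map φ.toMonoidHom ↔ x ∈ Subgroup.centralizer (A : Set G) from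
    Subgroup.mem_map_iff_mem φ.injective, Subgroup.mem_centralizer_iff, Subgroup.mem_centralizer_iff]
  constructor
  · rintro h _ ⟨a, ha, rfl⟩
    show φ a * φ x = φ x * φ a
    rw [← map_mul, h a ha, map_mul]
  · intro h a ha
    apply φ.injective
    rw [map_mul, map_mul]
    exact h _ ⟨a, ha, rfl⟩

theorem u0_singular : u0 ≠ 0 ∧ q u0 = 0 := by decide

/-- The centralizer in `G` of an element of order five with minus fixed space. -/
theorem layer_centralizer_five (z : G) (hz : orderOf z = 2) (Q : Subgroup (Subgroup.centralizer ({z} : Set G)))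
    [Q.Normal] (hF : Cfsg.generalizedFittingSubgroup (Subgroup.centralizer ({z} : Set G)) = Q)
    (hQ : Cfsg.IsExtraspecial 2 Q) (hcard : Nat.card Q = 2 ^ 9)
    (e : (Subgroup.centralizer ({z} : Set G)) ⧸ Q ≃* Cfsg.Omega (ZMod 2) (Cfsg.quadFormPlus 4 (ZMod 2)))
    (hnwc : ∃ g : G, (∃ hq : g * z * g⁻¹ ∈ Subgroup.centralizer ({z} : Set G),
      (⟨g * z * g⁻¹, hq⟩ : Subgroup.centralizer ({z} : Set G)) ∈ Q) ∧ g * z * g⁻¹ ≠ z)
    (B : Subgroup (Subgroup.centralizer ({z} : Set G))) (hB : Nat.card B = 5)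
    (hCQ : Cfsg.IsExtraspecial 2 ↥(Q ⊓ Subgroup.centralizer (B : Set (Subgroup.centralizer ({z} : Set G)))))
    (hCQcard : Nat.card ↥(Q ⊓ Subgroup.centralizer (B : Set (Subgroup.centralizer ({z} : Set G)))) = 32)
    (hminus : ∀ A : Subgroup (Subgroup.centralizer ({z} : Set G)),
      A ≤ Q ⊓ Subgroup.centralizer (B : Set (Subgroup.centralizer ({z} : Set G))) →
        Cfsg.IsElementaryAbelian 2 A → Nat.card A ≤ 4) :
    Cfsg.Spor.IsoJ2 ↥(Cfsg.layer ↥(Subgroup.centralizer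
        ((B.map (Subgroup.subtype (Subgroup.centralizer ({z} : Set G)))) : Set G))) ∧
      Nonempty (↥(Subgroup.centralizer (((Cfsg.layer ↥(Subgroup.centralizer
        ((B.map (Subgroup.subtype (Subgroup.centralizer ({z} : Set G)))) : Set G))).map
          (Subgroup.subtype _)) : Set G)) ≃* alternatingGroup (Fin 5)) := by
  classical
  haveI : Fact (Nat.Prime 2) := ⟨Nat.prime_two⟩
  haveI : Fact (Nat.Prime 5) := ⟨by norm_num⟩
  obtain ⟨Q', π, S⟩ := exists_co z hz Q hF hQ hcard e hnwc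
  generalize hC : Subgroup.centralizer ({z} : Set G) = C at *
  have hcentz : ∀ c, c ∈ C ↔ c * z = z * c := fun c => by
    rw [← hC]; exact Subgroup.mem_centralizer_singleton_iff
  have hQC : Q' ≤ C := fun x hx => (hcentz x).2 (S.mem_cz hx)
  have hQQ : Q'.subgroupOf C = Q := by
    haveI : (Q'.subgroupOf C).Normal := ⟨fun x hx c => S.norm c ((hcentz c).1 c.2) x hx⟩
    have eQ := Subgroup.subgroupOfEquivOfLe hQC
    have h512 : Nat.card ↥(Q'.subgroupOf C) = 2 ^ 9 := by rw [Nat.card_congr eQ.toEquiv, S.card_Q]; norm_num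
    refine Subgroup.eq_of_le_of_card_ge ?_ (by rw [hcard, h512])
    rw [← hF]
    exact ((CfsgLib.Solvable.Cores.le_pCore (IsPGroup.of_card h512)).trans
      (CfsgLib.Solvable.Cores.pCore_le_fittingSubgroup 2)).trans le_sup_right
  obtain ⟨⟨β, hβB⟩, hβ⟩ := exists_prime_orderOf_dvd_card' (G := ↥B) 5 (by rw [hB])
  rw [Subgroup.orderOf_mk] at hβ
  have hBz : B = Subgroup.zpowers β := (Subgroup.eq_of_le_of_card_ge (Subgroup.zpowers_le.2 hβB)
    (by rw [hB, Nat.card_zpowers, hβ])).symm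
  set b : G := (β : G) with hb
  have hb5 : orderOf b = 5 := by rw [hb, Subgroup.orderOf_coe, hβ]
  have hbz : b * z = z * b := (hcentz b).1 β.2
  have hcB : Subgroup.centralizer ((B.map C.subtype : Subgroup G) : Set G) = centB b := by
    rw [hBz, MonoidHom.map_zpowers, Subgroup.zpowers_eq_closure, Subgroup.centralizer_closure]
    rfl
  have memR : ∀ x : ↥C, x ∈ Q ⊓ Subgroup.centralizer (B : Set ↥C) ↔ (x : G) ∈ rOf Q' b := fun x => by
    rw [hBz, Subgroup.zpowers_eq_closure, Subgroup.centralizer_closure, Subgroup.mem_inf,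
      Subgroup.mem_centralizer_singleton_iff, mem_rOf, ← hQQ, Subgroup.mem_subgroupOf]
    exact and_congr_right fun _ => Subtype.ext_iff
  have hRmap : (Q ⊓ Subgroup.centralizer (B : Set ↥C)).map C.subtype = rOf Q' b := by
    ext x
    exact ⟨fun ⟨x', hx', e'⟩ => e' ▸ (memR x').1 hx', fun hx =>
      ⟨⟨x, hQC (mem_rOf.1 hx).1⟩, (memR _).2 hx, rfl⟩⟩
  let eR : ↥(Q ⊓ Subgroup.centralizer (B : Set ↥C)) ≃* ↥(rOf Q' b) :=
    ((Q ⊓ Subgroup.centralizer (B : Set ↥C)).equivMapOfInjective _ C.subtype_injective).trans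
      (MulEquiv.subgroupCongr hRmap)
  have hR : Cfsg.IsExtraspecial 2 ↥(rOf Q' b) := isExtraspecial_congr' eR hCQ
  have hR32 : Nat.card ↥(rOf Q' b) = 32 := by rw [← Nat.card_congr eR.toEquiv, hCQcard]
  have hminus' : ∀ A : Subgroup G, A ≤ rOf Q' b → Cfsg.IsElementaryAbelian 2 A → Nat.card A ≤ 4 := by
    intro A hA hea
    have hAC : A ≤ C := fun x hx => hQC (mem_rOf.1 (hA hx)).1
    have hea' : Cfsg.IsElementaryAbelian 2 (A.subgroupOf C) := by
      refine ⟨⟨⟨fun x y => Subtype.ext (Subtype.ext ?_)⟩⟩, fun x hx => Subtype.ext (hea.2 _ hx)⟩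
      show ((x : ↥C) : G) * ((y : ↥C) : G) = ((y : ↥C) : G) * ((x : ↥C) : G)
      exact congrArg Subtype.val (hea.1.is_comm.comm ⟨_, x.2⟩ ⟨_, y.2⟩)
    have h := hminus (A.subgroupOf C) (fun x hx => (memR x).2 (hA hx)) hea'
    rwa [Nat.card_congr (Subgroup.subgroupOfEquivOfLe hAC).toEquiv] at h
  obtain ⟨ι₀, ι₁, F⟩ := S.exists_fr hbz hb5 hR hR32 hminus'
  obtain ⟨u, g, p⟩ := S.exists_pair
  have hv0 : ι₀ (pt 0) ≠ 0 := fun e' => (pt_facts.2.1 0).2 (F.D0.inj (e'.trans F.D0.zero.symm))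
  have hvq : q (ι₀ (pt 0)) = 0 := by rw [F.D0.quad]; exact (pt_facts.2.1 0).1
  obtain ⟨k, hkz, hku⟩ := S.transitive hv0 hvq u0_singular.1 u0_singular.2
  have hI := S.act_iso hkz
  set b' := k * b * k⁻¹ with hb'
  have hkbz : k * b * z = z * (k * b) := cz_mul hkz hbz
  have hkiz : k⁻¹ * z = z * k⁻¹ := (Commute.inv_left (show Commute k z from hkz)).eq
  have hact : ∀ v, S.act b' (S.act k v) = S.act k (S.act b v) := fun v => by
    rw [hb', S.act_mul hkbz hkiz, S.act_inv_act hkz, S.act_mul hkz hbz]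
  have F' : Fr S b' (fun c => S.act k (ι₀ c)) (fun c => S.act k (ι₁ c)) := by
    refine ⟨cz_mul hkbz hkiz, ?_, ⟨fun c d => by rw [F.D0.add, hI.add], fun c => (hI.quad _).trans (F.D0.quad c)⟩,
      ⟨fun c d => by rw [F.D1.add, hI.add], fun c => (hI.quad _).trans (F.D1.quad c)⟩,
      fun c d => (hI.polar _ _).trans (F.orth c d), fun c => ?_, fun c => ?_⟩
    · rw [hb', ← MulAut.conj_apply, MulEquiv.orderOf_eq, hb5]
    · rw [hact, F.fix0]
    · rw [hact, F.cyc1]
  have hb'z := F'.bz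
  have hb'1 : b' ^ 5 = 1 := F'.ord ▸ pow_orderOf_eq_one b'
  have hub : u * b' = b' * u := S.comm_of_fixed hb'z hb'1 p.u_mem (by rw [p.π_u, ← hku, hact, F.fix0])
  obtain ⟨h, K⟩ := S.exists_five F' p hub
  set φ : G ≃* G := MulAut.conj k with hφ
  have hQk : ∀ x, x ∈ Q' ↔ k * x * k⁻¹ ∈ Q' := fun x => ⟨S.norm k hkz x, fun hx => by
    simpa [mul_assoc] using S.norm k⁻¹ hkiz _ hx⟩
  have hRk : (rOf Q' b).map φ.toMonoidHom = rOf Q' b' := by
    ext y
    obtain ⟨x, rfl⟩ := φ.surjective y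
    show φ x ∈ _ ↔ _
    rw [show φ x ∈ (rOf Q' b).map φ.toMonoidHom ↔ x ∈ rOf Q' b from Subgroup.mem_map_iff_mem φ.injective,
      mem_rOf, mem_rOf, hb']
    show _ ↔ k * x * k⁻¹ ∈ Q' ∧ k * x * k⁻¹ * (k * b * k⁻¹) = k * b * k⁻¹ * (k * x * k⁻¹)
    rw [conj_mul, conj_mul, mul_left_inj, mul_right_inj, ← hQk]
  let eR' : ↥(rOf Q' b) ≃* ↥(rOf Q' b') :=
    ((rOf Q' b).equivMapOfInjective _ φ.injective).trans (MulEquiv.subgroupCongr hRk)
  obtain ⟨⟨eJ⟩, ⟨eA⟩⟩ := K.layer_cent (isExtraspecial_congr' eR' hR)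
    (by rw [← Nat.card_congr eR'.toEquiv, hR32])
  have hCk : (centB b).map φ.toMonoidHom = centB b' := by
    ext y
    obtain ⟨x, rfl⟩ := φ.surjective y
    rw [show φ x ∈ (centB b).map φ.toMonoidHom ↔ x ∈ centB b from Subgroup.mem_map_iff_mem φ.injective,
      mem_centB, mem_centB, hb']
    show _ ↔ k * x * k⁻¹ * (k * b * k⁻¹) = k * b * k⁻¹ * (k * x * k⁻¹)
    rw [conj_mul, conj_mul, mul_left_inj, mul_right_inj]
  obtain ⟨⟨eL⟩, hL⟩ := layer_conj φ hCk
  rw [hcB]
  refine ⟨⟨eL.trans eJ⟩, ⟨((Subgroup.centralizer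
    (((Cfsg.layer ↥(centB b)).map (centB b).subtype : Subgroup G) : Set G)).equivMapOfInjective _ φ.injective).trans
      ((MulEquiv.subgroupCongr (by rw [centralizer_map, hL])).trans eA)⟩⟩

end CfsgLib.Characterizations.CoType
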