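import Cfsg.Agent.Lib.Characterizations.CoType.Model
import Cfsg.Agent.Lib.Characterizations.CoType.Data

/-!
# Four-dimensional minus subspaces of the quadratic space

A minus type space of dimension four is carried by its five singular points, whose sum is zero.
-/

set_option autoImplicit false
set_option linter.unusedSimpArgs false
set_option linter.unusedSectionVars false

namespace CfsgLib.Characterizations.CoType

/-- The minus space of dimension four, on four of its five singular points. -/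
abbrev U4 := Fin 4 → ZMod 2

/-- The five singular points. -/
def pt (i : Fin 5) : U4 := fun j => if i.val = 4 ∨ i.val = j.val then 1 else 0

/-- The polar form. -/
def Bm (c d : U4) : ZMod 2 :=
  c 0 * (d 1 + d 2 + d 3) + c 1 * (d 0 + d 2 + d 3) + c 2 * (d 0 + d 1 + d 3) + c 3 * (d 0 + d 1 + d 2)

/-- The form. -/
def qm (c : U4) : ZMod 2 :=
  c 0 * c 1 + c 0 * c 2 + c 0 * c 3 + c 1 * c 2 + c 1 * c 3 + c 2 * c 3

/-- A permutation of the points as a linear map. -/
def pa (σ : Equiv.Perm (Fin 5)) (c : U4) : U4 :=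
  fun j => c 0 * pt (σ 0) j + c 1 * pt (σ 1) j + c 2 * pt (σ 2) j + c 3 * pt (σ 3) j

/-- The cycle on the five points. -/
def cyc : Equiv.Perm (Fin 5) :=
  Equiv.swap 0 1 * Equiv.swap 1 2 * Equiv.swap 2 3 * Equiv.swap 3 4

set_option maxRecDepth 100000 in
theorem cyc_apply : (∀ i : Fin 5, cyc i = i + 1) ∧ cyc ^ 5 = 1 ∧ Equiv.Perm.sign cyc = 1 := by decide +kernel

set_option maxRecDepth 100000 in
theorem pt_facts : (∀ i j : Fin 5, pt i = pt j → i = j) ∧ (∀ i : Fin 5, qm (pt i) = 0 ∧ pt i ≠ 0) ∧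
    (∀ c : U4, qm c = 0 → c = 0 ∨ ∃ i, c = pt i) := by decide +kernel

set_option maxRecDepth 100000 in
theorem pa_pt : ∀ (σ : Equiv.Perm (Fin 5)) (i : Fin 5), pa σ (pt i) = pt (σ i) := by decide +kernel

set_option maxRecDepth 100000 in
theorem qm_pa : ∀ (σ : Equiv.Perm (Fin 5)) (c : U4), qm (pa σ c) = qm c := by decide +kernel

theorem pa_add (σ : Equiv.Perm (Fin 5)) (c d : U4) : pa σ (c + d) = pa σ c + pa σ d := by
  funext j; simp only [pa, Pi.add_apply]; ring

theorem add_self_U (c : U4) : c + c = 0 := funext fun _ => CharTwo.add_self_eq_zero _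

/-- Additive maps agreeing at the points agree. -/
theorem u4_ext {A : Type*} [AddCommGroup A] {f f' : U4 → A} (hf : ∀ a b, f (a + b) = f a + f b)
    (hf' : ∀ a b, f' (a + b) = f' a + f' b) (h : ∀ i, f (pt i) = f' (pt i)) (c : U4) : f c = f' c := by
  let F : U4 →+ A := AddMonoidHom.mk' f hf
  let F' : U4 →+ A := AddMonoidHom.mk' f' hf'
  have : F = F' := by
    refine AddMonoidHom.functions_ext (M := fun _ : Fin 4 => ZMod 2) _ _ _ fun j x => ?_
    have hj : Pi.single j (1 : ZMod 2) = pt ⟨j.val, by omega⟩ := by revert j; decide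
    rcases two_cases x with rfl | rfl
    · rw [Pi.single_zero, map_zero, map_zero]
    · rw [hj]; exact h _
  exact congrArg (fun k : U4 →+ A => k c) this

theorem pa_one (c : U4) : pa 1 c = c := u4_ext (f' := id) (pa_add 1) (fun _ _ => rfl) (fun i => pa_pt 1 i) c

theorem pa_mul (σ τ : Equiv.Perm (Fin 5)) (c : U4) : pa (σ * τ) c = pa σ (pa τ c) :=
  u4_ext (f' := fun c => pa σ (pa τ c)) (pa_add _) (fun a b => by simp only [pa_add])
    (fun i => by simp only [pa_pt, Equiv.Perm.mul_apply]) c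

theorem pa_inj {σ τ : Equiv.Perm (Fin 5)} (h : ∀ c, pa σ c = pa τ c) : σ = τ :=
  Equiv.ext fun i => pt_facts.1 _ _ (by rw [← pa_pt, h, pa_pt])

/-- An additive map preserving the form permutes the points. -/
theorem exists_perm {f : U4 → U4} (hadd : ∀ a b, f (a + b) = f a + f b) (hinj : Function.Injective f)
    (hq : ∀ c, qm (f c) = qm c) : ∃ σ : Equiv.Perm (Fin 5), ∀ c, f c = pa σ c := by
  have h0 : f 0 = 0 := by simpa using hadd 0 0
  have h : ∀ i, ∃ j, f (pt i) = pt j := fun i =>
    (pt_facts.2.2 _ ((hq _).trans (pt_facts.2.1 i).1)).resolve_left fun e =>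
      (pt_facts.2.1 i).2 (hinj (e.trans h0.symm))
  choose σ hσ using h
  have hbij : Function.Bijective σ := Finite.injective_iff_bijective.1 fun i j e =>
    pt_facts.1 _ _ (hinj (by rw [hσ, hσ, e]))
  exact ⟨Equiv.ofBijective σ hbij, u4_ext hadd (pa_add _) fun i => by rw [pa_pt]; exact hσ i⟩

set_option maxRecDepth 100000 in
theorem qm_add : ∀ c d : U4, qm (c + d) = qm c + qm d + Bm c d := by decide +kernel

set_option maxRecDepth 100000 in
theorem Bm_nondeg : ∀ c : U4, (∀ d, Bm c d = 0) → c = 0 := by decide +kernel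

set_option maxRecDepth 100000 in
theorem pt_perp_aniso : ∀ (i : Fin 5) (c : U4), Bm c (pt i) = 0 → c ≠ 0 → c ≠ pt i → qm c = 1 := by decide +kernel

set_option maxRecDepth 100000 in
theorem pt_perp_exists : ∀ i : Fin 5, ∃ c : U4, Bm c (pt i) = 0 ∧ c ≠ 0 ∧ c ≠ pt i := by decide +kernel

set_option maxRecDepth 100000 in
theorem pt_pair : ∀ i : Fin 5, ∃ j : Fin 5, Bm (pt j) (pt i) = 1 := by decide +kernel

set_option maxRecDepth 100000 in
theorem pt_perp_perp : ∀ (i : Fin 5) (c : U4),
    (∀ d : U4, Bm d (pt i) = 0 → Bm c d = 0) → c = 0 ∨ c = pt i := by decide +kernel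

set_option maxRecDepth 100000 in
theorem swap_transvection : ∀ i j : Fin 5, i ≠ j → qm (pt i + pt j) = 1 ∧
    ∀ c : U4, pa (Equiv.swap i j) c = c + Bm c (pt i + pt j) • (pt i + pt j) := by decide +kernel

set_option maxRecDepth 100000 in
theorem centralizer_cyc : ∀ σ : Equiv.Perm (Fin 5), (∀ i, σ (i + 1) = σ i + 1) → σ = cyc ^ (σ 0).val := by
  decide +kernel

set_option maxRecDepth 100000 in
theorem cyc_orbits : ∀ c : U4, c ≠ 0 → ∃ k : Fin 5, ∃ d ∈ ([pt 0, pt 0 + pt 1, pt 0 + pt 2] : List U4),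
    c = pa (cyc ^ k.val) d := by decide +kernel

set_option maxRecDepth 100000 in
theorem swap01_form : ∀ v : V, trans (P (pr 0 1)) v = M (Equiv.swap 0 1) 0 v := by decide +kernel

set_option maxRecDepth 100000 in
theorem nondeg_V : (∀ u : V, (∀ i : Fin 8, B u (Pi.single i 1) = 0) → u = 0) ∧ q (P (pr 0 1)) = 1 := by
  decide +kernel

set_option maxRecDepth 100000 in
theorem to_r0 : ∀ r : V, q r = 1 → r = P (pr 0 1) ∨ B r (P (pr 0 1)) = 1 ∨
    ∃ s : V, q s = 1 ∧ B r s = 1 ∧ B (P (pr 0 1)) s = 1 := by decide +kernel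

/-- A minus subspace with its five points. -/
structure Dec (ι : U4 → V) : Prop where
  add : ∀ c d, ι (c + d) = ι c + ι d
  quad : ∀ c, q (ι c) = qm c

/-- The values of a linear functional as a vector. -/
def ofVals (r : Fin 4 → ZMod 2) : U4 := fun j => r j + (r 0 + r 1 + r 2 + r 3)

set_option maxRecDepth 100000 in
theorem ofVals_spec : (∀ c : U4, ofVals (fun j => Bm c (pt ⟨j.val, by omega⟩)) = c) ∧
    ∀ r : U4, ∀ j : Fin 4, Bm (ofVals r) (pt ⟨j.val, by omega⟩) = r j := by decide +kernel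

/-- The coordinates of the projection. -/
def projU (ι : U4 → V) (x : V) : U4 := ofVals fun j => B x (ι (pt ⟨j.val, by omega⟩))

namespace Dec

variable {ι : U4 → V} (D : Dec ι)
include D

theorem zero : ι 0 = 0 := by simpa using D.add 0 0

theorem polar (c d : U4) : B (ι c) (ι d) = Bm c d := by
  have h1 := q_add (ι c) (ι d)
  rw [← D.add, D.quad, D.quad, D.quad, qm_add] at h1
  exact (add_left_cancel h1).symm

theorem proj_ι (c : U4) : projU ι (ι c) = c := by
  refine Eq.trans ?_ (ofVals_spec.1 c)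
  unfold projU
  congr 1
  funext j
  exact D.polar c _

theorem inj : Function.Injective ι := fun c d h => by rw [← D.proj_ι c, h, D.proj_ι]

theorem polar_proj (x : V) (d : U4) : B x (ι d) = Bm (projU ι x) d := by
  have hB : ∀ a b, Bm (projU ι x) (a + b) = Bm (projU ι x) a + Bm (projU ι x) b := fun a b => by
    simp only [Bm, Pi.add_apply]; ring
  have hB' : ∀ a b, B x (ι (a + b)) = B x (ι a) + B x (ι b) := fun a b => by
    rw [D.add, B_comm, B_add_left, B_comm (ι a), B_comm (ι b)]
  refine u4_ext (f := fun d => B x (ι d)) (f' := fun d => Bm (projU ι x) d) hB' hB (fun i => ?_) d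
  have hlast : pt 4 = pt 0 + pt 1 + pt 2 + pt 3 := by decide
  have hj : ∀ j : Fin 4, B x (ι (pt ⟨j.val, by omega⟩)) = Bm (projU ι x) (pt ⟨j.val, by omega⟩) := fun j =>
    (ofVals_spec.2 (fun k : Fin 4 => B x (ι (pt ⟨k.val, by omega⟩))) j).symm
  fin_cases i
  · exact hj 0
  · exact hj 1
  · exact hj 2
  · exact hj 3
  · show B x (ι (pt 4)) = Bm _ (pt 4)
    rw [hlast, hB', hB', hB', hB, hB, hB]
    exact congrArg₂ (· + ·) (congrArg₂ (· + ·) (congrArg₂ (· + ·) (hj 0) (hj 1)) (hj 2)) (hj 3)

theorem proj_add (x y : V) : projU ι (x + y) = projU ι x + projU ι y := by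
  funext j
  simp only [projU, ofVals, B_add_left, Pi.add_apply]
  ring

theorem proj_eq_zero {x : V} (h : ∀ c, B x (ι c) = 0) : projU ι x = 0 :=
  Bm_nondeg _ fun d => by rw [← D.polar_proj, h]

theorem proj_of_range_perp {x : V} (hx : projU ι x = 0) (c : U4) : B x (ι c) = 0 := by
  rw [D.polar_proj, hx]; simp [Bm]

/-- The component orthogonal to the subspace. -/
theorem proj_rest (x : V) : projU ι (x + ι (projU ι x)) = 0 := by
  rw [D.proj_add, D.proj_ι, add_self_U]

/-- Cardinality of the orthogonal complement. -/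
theorem card_perp : Nat.card {x : V // projU ι x = 0} = 16 := by
  have e : V ≃ U4 × {x : V // projU ι x = 0} :=
    { toFun := fun x => (projU ι x, ⟨x + ι (projU ι x), D.proj_rest x⟩)
      invFun := fun p => ι p.1 + p.2.1
      left_inv := fun x => by
        show ι (projU ι x) + (x + ι (projU ι x)) = x
        rw [add_comm x, ← add_assoc, add_self_V, zero_add]
      right_inv := fun p => by
        obtain ⟨c, x, hx⟩ := p
        have hc : projU ι (ι c + x) = c := by rw [D.proj_add, D.proj_ι, hx, add_zero]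
        refine Prod.ext hc (Subtype.ext ?_)
        show ι c + x + ι (projU ι (ι c + x)) = x
        rw [hc, add_comm (ι c), add_assoc, add_self_V, add_zero] }
  have h := Nat.card_congr e
  rw [Nat.card_prod, Nat.card_fun, Nat.card_fun, Nat.card_zmod, Nat.card_fin, Nat.card_fin] at h
  omega

/-- The subspace with a permutation of its points, the identity on the complement. -/
def ext (_D : Dec ι) (σ : Equiv.Perm (Fin 5)) (x : V) : V := ι (pa σ (projU ι x)) + (x + ι (projU ι x))

theorem ext_add (σ : Equiv.Perm (Fin 5)) (x y : V) : D.ext σ (x + y) = D.ext σ x + D.ext σ y := by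
  simp only [ext, D.proj_add, pa_add, D.add]
  abel

theorem ext_ι (σ : Equiv.Perm (Fin 5)) (c : U4) : D.ext σ (ι c) = ι (pa σ c) := by
  rw [ext, D.proj_ι, add_self_V, add_zero]

theorem ext_perp (σ : Equiv.Perm (Fin 5)) {x : V} (hx : projU ι x = 0) : D.ext σ x = x := by
  have h0 : pa σ 0 = 0 := by simpa using pa_add σ 0 0
  rw [ext, hx, h0, D.zero, zero_add, add_zero]

theorem proj_ext (σ : Equiv.Perm (Fin 5)) (x : V) : projU ι (D.ext σ x) = pa σ (projU ι x) := by
  rw [ext, D.proj_add, D.proj_ι, D.proj_rest, add_zero]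

theorem ext_mul (σ τ : Equiv.Perm (Fin 5)) (x : V) : D.ext (σ * τ) x = D.ext σ (D.ext τ x) := by
  rw [show D.ext σ (D.ext τ x) = D.ext σ (ι (pa τ (projU ι x))) + D.ext σ (x + ι (projU ι x)) from D.ext_add _ _ _,
    D.ext_ι, D.ext_perp _ (D.proj_rest x), ext, pa_mul]

theorem ext_one (x : V) : D.ext 1 x = x := by
  rw [ext, pa_one, add_comm x, ← add_assoc, add_self_V, zero_add]

theorem ext_iso (σ : Equiv.Perm (Fin 5)) : Iso (D.ext σ) := by
  refine ⟨D.ext_add σ, fun x => ?_, Function.LeftInverse.injective (g := D.ext σ⁻¹) fun x => by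
    rw [← D.ext_mul, inv_mul_cancel, D.ext_one]⟩
  have key : ∀ y : V, (∀ c, B y (ι c) = 0) → ∀ c, q (ι c + y) = qm c + q y := fun y hy c => by
    rw [q_add, D.quad, B_comm, hy, add_zero]
  have hperp := D.proj_of_range_perp (D.proj_rest x)
  calc q (D.ext σ x) = qm (pa σ (projU ι x)) + q (x + ι (projU ι x)) := key _ hperp _
    _ = q (ι (projU ι x) + (x + ι (projU ι x))) := by rw [qm_pa, key _ hperp]
    _ = q x := by rw [add_comm x, ← add_assoc, add_self_V, zero_add]

theorem ext_swap {i j : Fin 5} (hij : i ≠ j) (x : V) :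
    D.ext (Equiv.swap i j) x = trans (ι (pt i + pt j)) x := by
  have hs : ∀ a : ZMod 2, ∀ c, ι (a • c) = a • ι c := fun a c => by
    rcases two_cases a with rfl | rfl <;> simp [D.zero]
  rw [ext, (swap_transvection i j hij).2, D.add, hs, trans, D.polar_proj]
  rw [add_comm x (ι (projU ι x)), add_add_add_comm, add_self_V, zero_add, add_comm]

end Dec

end CfsgLib.Characterizations.CoType
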