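import Cfsg.Agent.Lib.Characterizations.CoType.Five.Cent
import Cfsg.Agent.Lib.Characterizations.HallJanko.Uniq.Hypotheses

/-!
# The quotient `C(b)/⟨b⟩` is the Hall–Janko group
-/

set_option autoImplicit false
set_option linter.style.haveILetI false
set_option linter.unusedSectionVars false
set_option maxRecDepth 10000

namespace CfsgLib.Characterizations.CoType

open CfsgLib.Involution.Dihedral (orderOf_eq_two mul_self)

variable {G : Type*} [Group G] [Finite G] {z : G} {Q : Subgroup G} {π : G → V}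

/-- The centralizer of `b`. -/
abbrev centB (b : G) : Subgroup G := Subgroup.centralizer ({b} : Set G)

/-- `b` as an element of its centralizer. -/
def bc (b : G) : ↥(centB b) := ⟨b, Subgroup.mem_centralizer_singleton_iff.2 rfl⟩

theorem mem_centB {b c : G} : c ∈ centB b ↔ c * b = b * c := Subgroup.mem_centralizer_singleton_iff

instance zb_normal (b : G) : (Subgroup.zpowers (bc b)).Normal :=
  ⟨fun x hx c => by
    obtain ⟨k, rfl⟩ := hx
    have hc : Commute c (bc b) := Subtype.ext (mem_centB.1 c.2)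
    show c * bc b ^ k * c⁻¹ ∈ _
    rw [(hc.zpow_right k).eq, mul_inv_cancel_right]
    exact ⟨k, rfl⟩⟩

theorem mem_zb {b : G} {c : ↥(centB b)} : c ∈ Subgroup.zpowers (bc b) ↔ (c : G) ∈ Subgroup.zpowers b := by
  constructor
  · rintro ⟨k, rfl⟩
    exact ⟨k, by simp [bc]⟩
  · rintro ⟨k, hk⟩
    exact ⟨k, Subtype.ext (by simpa [bc] using hk)⟩

theorem comm_zb {b x n : G} (hx : x * b = b * x) (hn : n ∈ Subgroup.zpowers b) : x * n = n * x := by
  obtain ⟨k, rfl⟩ := hn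
  exact (Commute.zpow_right hx k).eq

/-- Involutions of `C(b)` congruent modulo `⟨b⟩` are equal. -/
theorem eq_of_zb {b : G} (hb : orderOf b = 5) {x y : G} (hxb : x * b = b * x) (hxx : x * x = 1) (hyy : y * y = 1)
    (h : x⁻¹ * y ∈ Subgroup.zpowers b) : x = y := by
  set n := x⁻¹ * y with hn
  have hy : y = x * n := by rw [hn, mul_inv_cancel_left]
  have hc : Commute x n := comm_zb hxb h
  have h2 : n ^ 2 = 1 := by
    rw [sq]
    calc n * n = x * x * (n * n) := by rw [hxx, one_mul]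
      _ = x * n * (x * n) := (hc.symm.mul_mul_mul_comm x n).symm
      _ = 1 := by rw [← hy, hyy]
  have h5 : n ^ 5 = 1 := by
    obtain ⟨k, hk⟩ := h
    rw [← hk, ← zpow_natCast, ← zpow_mul, mul_comm, zpow_mul, zpow_natCast, ← hb, pow_orderOf_eq_one, one_zpow]
  have h1 : n = 1 := by
    calc n = n ^ 5 * ((n ^ 2) ^ 2)⁻¹ := by group
      _ = 1 := by rw [h5, h2]; simp
  rw [hy, h1, mul_one]

namespace Fr

variable {S : Co z Q π} {b : G} {ι₀ ι₁ : U4 → V} (F : Fr S b ι₀ ι₁)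
include F

/-- `Q` meets `⟨b⟩` trivially. -/
theorem Q_zb {x : G} (hx : x ∈ Q) (hxb : x ∈ Subgroup.zpowers b) : x = 1 := by
  have h1 : orderOf x ∣ 512 := S.card_Q ▸ by
    have := orderOf_dvd_natCard (⟨x, hx⟩ : ↥Q)
    rwa [Subgroup.orderOf_mk] at this
  have h2 : orderOf x ∣ 5 := by
    have := orderOf_dvd_natCard (⟨x, hxb⟩ : ↥(Subgroup.zpowers b))
    rwa [Subgroup.orderOf_mk, Nat.card_zpowers, F.ord] at this
  exact orderOf_eq_one_iff.1 (Nat.dvd_one.1 (Nat.dvd_gcd h1 h2))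

theorem pow_five_Q {x : G} (hx : x ∈ Q) : x ^ 5 = x := by
  have h : (x * x) * (x * x) = 1 := by
    rw [S.sq_eq hx]
    rcases two_cases (q (π x)) with e | e <;> rw [e]
    · rw [zp_zero, one_mul]
    · rw [zp_one, S.extra.z_sq]
  calc x ^ 5 = (x * x) * (x * x) * x := by simp only [pow_succ, pow_zero, one_mul, mul_assoc]
    _ = x := by rw [h, one_mul]

/-- Powers of `b` act trivially on the fixed space. -/
theorem s0_zb {c : ↥(cb z b)} (hc : (c : G) ∈ Subgroup.zpowers b) : F.s0 c = 1 := by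
  obtain ⟨k, hk⟩ : (c : G) ∈ Submonoid.powers b := by
    rw [← SetLike.mem_coe, powers_eq_zpowers]; exact hc
  obtain ⟨τ, h, -⟩ := F.s0_spec c
  exact Subtype.ext (F.acts_unique h (by simpa [← hk] using F.acts_pow_b k)).1

/-- An element of `C(z)` centralising `C_Q(b)` acts trivially on the fixed space. -/
theorem s0_of_cent {c : ↥(cb z b)} (hc : ∀ r ∈ rOf Q b, (c : G) * r = r * c) : F.s0 c = 1 := by
  obtain ⟨τ, h, -⟩ := F.s0_spec c
  refine Subtype.ext (pa_inj fun a => F.D0.inj ?_)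
  rw [← h.on0, ← S.π_sec (ι₀ a), S.act_π (mem_cb.1 c.2).1 (S.sec_mem _),
    hc _ (mem_rOf.2 ⟨S.sec_mem _, F.sec_comm a⟩), mul_inv_cancel_right, Subgroup.coe_one, pa_one, S.π_sec]

end Fr

namespace Five

variable {S : Co z Q π} {b u g h : G} {ι₀ ι₁ : U4 → V} (K : Five S b u g h ι₀ ι₁)
include K

/-- `C(b)/⟨b⟩` is the Hall–Janko group. -/
theorem isoJ2_quot (hR : Cfsg.IsExtraspecial 2 ↥(rOf Q b)) (hR32 : Nat.card ↥(rOf Q b) = 32) :
    Cfsg.Spor.IsoJ2 (↥(centB b) ⧸ Subgroup.zpowers (bc b)) := by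
  classical
  haveI : Fact (Nat.Prime 2) := ⟨Nat.prime_two⟩
  have F := K.F
  have hzz : z * z = 1 := S.extra.z_sq
  have hz1 : z ≠ 1 := S.extra.z_ne
  let zC : ↥(centB b) := ⟨z, mem_centB.2 F.bz.symm⟩
  set N := Subgroup.zpowers (bc b) with hN
  let p : ↥(centB b) →* ↥(centB b) ⧸ N := QuotientGroup.mk' N
  have hp : Function.Surjective p := QuotientGroup.mk'_surjective N
  have p_eq : ∀ x y : ↥(centB b), p x = p y ↔ ((x : G))⁻¹ * y ∈ Subgroup.zpowers b := fun x y => by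
    show ((x : ↥(centB b) ⧸ N) = (y : ↥(centB b) ⧸ N)) ↔ _
    rw [QuotientGroup.eq, mem_zb]
    simp
  have p_one : ∀ x : ↥(centB b), p x = 1 ↔ ((x : G)) ∈ Subgroup.zpowers b := fun x => by
    show ((x : ↥(centB b) ⧸ N) = 1) ↔ _
    rw [QuotientGroup.eq_one_iff, mem_zb]
  set zM := p zC with hzM
  -- the order of the image of `z`
  have hzM2 : orderOf zM = 2 := by
    refine orderOf_eq_two (by rw [hzM, ← map_mul, p_one]; show z * z ∈ _; rw [hzz]; exact one_mem _) fun e => ?_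
    exact hz1 (F.Q_zb S.extra.z_mem ((p_one zC).1 e))
  -- the centralizer of the image of `z`
  have hfix : ∀ c : ↥(centB b), p c * zM = zM * p c → (c : G) * z = z * c := fun c hc => by
    rw [hzM, ← map_mul, ← map_mul] at hc
    have h1 := (p_eq _ _).1 hc
    have h2 : (z⁻¹ * ((c : G)⁻¹ * z * c)) ∈ Subgroup.zpowers b := by
      convert h1 using 1
      show z⁻¹ * ((c : G)⁻¹ * z * c) = ((c : G) * z)⁻¹ * (z * c)
      group
    have h3 := eq_of_zb F.ord F.bz.symm hzz (by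
      calc (c : G)⁻¹ * z * c * ((c : G)⁻¹ * z * c) = (c : G)⁻¹ * (z * z) * c := by group
        _ = 1 := by rw [hzz]; group) h2
    calc (c : G) * z = c * ((c : G)⁻¹ * z * c) := by rw [← h3]
      _ = z * c := by group
  let f : ↥(cb z b) →* ↥(Subgroup.centralizer ({zM} : Set (↥(centB b) ⧸ N))) :=
    MonoidHom.mk' (fun c => ⟨p ⟨c, mem_centB.2 (mem_cb.1 c.2).2⟩, Subgroup.mem_centralizer_singleton_iff.2 (by
      rw [hzM, ← map_mul, ← map_mul]
      exact congrArg p (Subtype.ext (mem_cb.1 c.2).1))⟩) fun c d => Subtype.ext (by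
        show p _ = p _ * p _
        rw [← map_mul]; rfl)
  have hf : Function.Surjective f := by
    rintro ⟨y, hy⟩
    obtain ⟨c, rfl⟩ := hp y
    exact ⟨⟨c, mem_cb.2 ⟨hfix c (Subgroup.mem_centralizer_singleton_iff.1 hy), mem_centB.1 c.2⟩⟩, rfl⟩
  have f_eq : ∀ x y : ↥(cb z b), f x = f y ↔ ((x : G))⁻¹ * y ∈ Subgroup.zpowers b := fun x y =>
    Subtype.ext_iff.trans (p_eq _ _)
  have hRcb : rOf Q b ≤ cb z b := fun x hx => mem_cb.2 ⟨S.mem_cz (mem_rOf.1 hx).1, (mem_rOf.1 hx).2⟩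
  let fR := f.comp (Subgroup.inclusion hRcb)
  have hfR : Function.Injective fR := (injective_iff_map_eq_one fR).2 fun x hx => by
    have h := (f_eq (Subgroup.inclusion hRcb x) 1).1 (hx.trans (map_one f).symm)
    refine Subtype.ext (inv_eq_one.1 (F.Q_zb (inv_mem (mem_rOf.1 x.2).1) ?_))
    simpa using h
  -- the action on the five points
  have hfs : f.ker ≤ F.s0.ker := fun c hc => by
    have h := (f_eq c 1).1 ((MonoidHom.mem_ker.1 hc).trans (map_one f).symm)
    refine MonoidHom.mem_ker.2 (F.s0_zb ?_)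
    simpa using inv_mem h
  let gg := f.liftOfRightInverse (Function.surjInv hf) (Function.rightInverse_surjInv hf) ⟨F.s0, hfs⟩
  have hgg : ∀ c, gg (f c) = F.s0 c := fun c =>
    f.liftOfRightInverse_comp_apply _ (Function.rightInverse_surjInv hf) ⟨F.s0, hfs⟩ c
  have hggs : Function.Surjective gg := fun σ => by
    obtain ⟨c, rfl⟩ := F.s0_surjective σ
    exact ⟨f c, hgg c⟩
  have hrange : fR.range = gg.ker := by
    ext y
    obtain ⟨c, rfl⟩ := hf y
    rw [MonoidHom.mem_ker, hgg]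
    constructor
    · rintro ⟨r, hr⟩
      rw [← hgg, ← hr, MonoidHom.comp_apply, hgg]
      exact F.s0_rOf (mem_rOf.1 r.2).1
    · intro hc
      obtain ⟨k, r, hr, e⟩ := F.s0_ker hc
      refine ⟨⟨r, hr⟩, (f_eq _ _).2 ?_⟩
      show r⁻¹ * (c : G) ∈ _
      rw [e, (comm_zb (mem_rOf.1 hr).2 (pow_mem (Subgroup.mem_zpowers b) k)).symm, inv_mul_cancel_left]
      exact pow_mem (Subgroup.mem_zpowers b) k
  let eQ : ↥(rOf Q b) ≃* ↥gg.ker := (MonoidHom.ofInjective hfR).trans (MulEquiv.subgroupCongr hrange)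
  have hQ : Cfsg.IsExtraspecial 2 ↥gg.ker := isExtraspecial_congr' eQ hR
  have hcard : Nat.card ↥gg.ker = 2 ^ 5 := by rw [← Nat.card_congr eQ.toEquiv, hR32]; norm_num
  have h2c : Subgroup.centralizer (gg.ker : Set ↥(Subgroup.centralizer ({zM} : Set (↥(centB b) ⧸ N)))) ≤ gg.ker := by
    intro y hy
    obtain ⟨c, rfl⟩ := hf y
    rw [MonoidHom.mem_ker, hgg]
    refine F.s0_of_cent fun r hr => ?_
    obtain ⟨hrQ, hrb⟩ := mem_rOf.1 hr
    have hm : f (Subgroup.inclusion hRcb ⟨r, hr⟩) ∈ gg.ker := hrange ▸ ⟨⟨r, hr⟩, rfl⟩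
    have h := Subgroup.mem_centralizer_iff.1 hy _ hm
    rw [← map_mul, ← map_mul] at h
    have h1 : ((r : G) * c)⁻¹ * (c * r) ∈ Subgroup.zpowers b := (f_eq _ _).1 h
    have h2 : ((r : G) * c)⁻¹ * (c * r) ∈ Q := by
      have hn := S.norm (c : G)⁻¹ (Commute.inv_left (show Commute (c : G) z from (mem_cb.1 c.2).1)).eq _ (inv_mem hrQ)
      convert mul_mem hn hrQ using 1
      group
    exact (inv_mul_eq_one.1 (F.Q_zb h2 h1)).symm
  let e₅ := QuotientGroup.quotientKerEquivOfSurjective gg hggs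
  have hF := HallJanko.Uniq.generalizedFitting_eq gg.ker (IsPGroup.of_card (n := 5) hcard) h2c e₅
  obtain ⟨eO⟩ := HallJanko.omega_equiv
  -- fusion
  let hC : ↥(centB b) := ⟨h, mem_centB.2 K.hb⟩
  let uC : ↥(centB b) := ⟨u, mem_centB.2 K.ub⟩
  have hhu : p hC * zM * (p hC)⁻¹ = p uC := by
    rw [hzM, ← map_inv, ← map_mul, ← map_mul]
    exact congrArg p (Subtype.ext K.hconj)
  have hnwc : ∃ m : ↥(centB b) ⧸ N, (∃ hq : m * zM * m⁻¹ ∈ Subgroup.centralizer ({zM} : Set (↥(centB b) ⧸ N)),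
      (⟨m * zM * m⁻¹, hq⟩ : Subgroup.centralizer ({zM} : Set (↥(centB b) ⧸ N))) ∈ gg.ker) ∧ m * zM * m⁻¹ ≠ zM := by
    have hm : p hC * zM * (p hC)⁻¹ ∈ Subgroup.centralizer ({zM} : Set (↥(centB b) ⧸ N)) :=
      Subgroup.mem_centralizer_singleton_iff.2 (by
        rw [hhu, hzM, ← map_mul, ← map_mul]
        exact congrArg p (Subtype.ext K.p.uz))
    refine ⟨p hC, ⟨hm, hrange ▸ ⟨⟨u, K.u_mem⟩, Subtype.ext hhu.symm⟩⟩, fun e => K.p.u_ne_z ?_⟩
    rw [hhu] at e
    exact eq_of_zb F.ord K.ub K.p.uu hzz ((p_eq _ _).1 e)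
  -- two classes
  obtain ⟨t, ht, htz, htb, htc⟩ := K.exists_second
  let tC : ↥(centB b) := ⟨t, mem_centB.2 htb⟩
  have hcl : ∃ x y : ↥(centB b) ⧸ N, orderOf x = 2 ∧ orderOf y = 2 ∧ ¬ IsConj x y := by
    have htt := mul_self ht
    refine ⟨zM, p tC, hzM2, orderOf_eq_two (by rw [← map_mul, p_one]; show t * t ∈ _; rw [htt]; exact one_mem _)
      fun e => ?_, fun hconj => htc ?_⟩
    · have := eq_of_zb F.ord htb htt (one_mul (1 : G)) (by rw [mul_one]; exact inv_mem ((p_one tC).1 e))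
      rw [this, orderOf_one] at ht
      omega
    · obtain ⟨m, hm⟩ := isConj_iff.1 hconj
      obtain ⟨c, rfl⟩ := hp m
      rw [hzM, ← map_inv, ← map_mul, ← map_mul] at hm
      have hcb : ((c : G) * z * (c : G)⁻¹) * b = b * ((c : G) * z * (c : G)⁻¹) := mem_centB.1 (c * zC * c⁻¹).2
      refine isConj_iff.2 ⟨c, eq_of_zb F.ord hcb ?_ htt ((p_eq _ _).1 hm)⟩
      rw [conj_mul, hzz, mul_one, mul_inv_cancel]
  obtain ⟨Q', K', hJ⟩ := HallJanko.exists_hj zM hzM2 gg.ker hF hQ hcard (e₅.trans eO.symm) hnwc hcl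
  obtain ⟨t', P, B, hd⟩ := hJ.exists_data
  exact HallJanko.Uniq.nonempty_iso hd

end Five

end CfsgLib.Characterizations.CoType
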